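import Cfsg.Agent.Lib.Schur.CoverG

/-!
# Stem extensions of a permutation group generated by codes

A variant of `CoverG.exists_stem_of_cert`: the group `G` is the group generated by the second parts
of the generators (so no chain for `G` is needed), and the points of the second part are numbered
first (the elements of a chain then have different low bits if the base lies in the second part).
-/

set_option autoImplicit false

namespace Cfsg.Agent.Lib.Schur.CoverH

open Cfsg Subgroup
open Cfsg.Agent.Lib.PermComp.Core Cfsg.Agent.Lib.Schur.CoverCert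
open scoped commutatorElement

universe u

variable {N m w mask L maskL idc w' mask' : ℕ} {β : Type u} [Finite β]

/-- The numbering of all points, the second part first. -/
def EF (e' : β ≃ Fin m) : Fin N ⊕ β ≃ Fin (m + N) :=
  ((Equiv.sumComm (Fin N) β).trans (Equiv.sumCongr e' (Equiv.refl _))).trans finSumFinEquiv

@[simp] lemma EF_inr (e' : β ≃ Fin m) (b : β) :
    ((EF (N := N) e' (Sum.inr b) : Fin (m + N)) : ℕ) = (e' b).1 := by
  simp [EF]

@[simp] lemma EF_inl (e' : β ≃ Fin m) (a : Fin N) :
    ((EF e' (Sum.inl a) : Fin (m + N)) : ℕ) = m + a.1 := by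
  simp [EF]

/-- One generator: its code on all points, the code of its inverse, its code on the second part. -/
noncomputable def blockOK (N m w mask w' mask' : ℕ) (t : ℕ × ℕ × ℕ) : Bool :=
  ifB (goodPair (m + N) w mask t.1 t.2.1) <|
  ifB (allL (fun i => Nat.ble m (app w mask t.1 (m + i))) (List.range N)) <|
  allL (fun b => Nat.beq (app w mask t.1 b) (app w' mask' t.2.2 b)) (List.range m)

theorem mapsTo_of_rep (e' : β ≃ Fin m) {c : ℕ} {g : Equiv.Perm (Fin N ⊕ β)} (hg : Rep w mask (EF e') c g)
    (h : allL (fun i => Nat.ble m (app w mask c (m + i))) (List.range N) = true) :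
    g ∈ (Equiv.Perm.sumCongrHom (Fin N) β).range := by
  apply Equiv.Perm.mem_sumCongrHom_range_of_perm_mapsTo_inl
  rintro _ ⟨a, rfl⟩
  have h1 := (allL_eq_true _ _).1 h a.1 (List.mem_range.2 a.2)
  have h2 : m ≤ app w mask c (m + a.1) := Nat.le_of_ble_eq_true h1
  have h3 := hg (Sum.inl a)
  rw [EF_inl] at h3
  rw [h3] at h2
  cases hx : g (Sum.inl a) with
  | inl a' => exact ⟨a', rfl⟩
  | inr b =>
    rw [hx, EF_inr] at h2
    have := (e' b).2
    omega

theorem rep_proj (e' : β ≃ Fin m) {c c' : ℕ} {x : (Equiv.Perm.sumCongrHom (Fin N) β).range}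
    (hg : Rep w mask (EF e') c (x : Equiv.Perm (Fin N ⊕ β)))
    (h : allL (fun b => Nat.beq (app w mask c b) (app w' mask' c' b)) (List.range m) = true) :
    Rep w' mask' e' c' (proj x) := by
  intro b
  have h1 := (allL_eq_true _ _).1 h (e' b).1 (List.mem_range.2 (e' b).2)
  have h2 : app w mask c (e' b).1 = app w' mask' c' (e' b).1 := Nat.eq_of_beq_eq_true h1
  have h3 := hg (Sum.inr b)
  rw [proj_apply, EF_inr, EF_inr, h2] at h3
  exact h3

/-- The main theorem. -/
theorem exists_stem_of_cert (e' : β ≃ Fin m) {k : ℕ} (hk : k.Prime)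
    {gens : List (ℕ × ℕ × ℕ)} {prog : List (ℕ × ℕ × ℕ)} {ls : List Lev}
    {zc zd uc ud vc vd p : ℕ}
    (hgens : allL (blockOK N m w mask w' mask') gens = true)
    (hc : checkAll (m + N) w mask L maskL idc (gens.map (·.1)) prog ls = true)
    (hord : orderC ls = k * Nat.card (H w' mask' e' (gens.map (·.2.2))))
    (hzg : goodPair (m + N) w mask zc zd = true)
    (hug : goodPair (m + N) w mask uc ud = true)
    (hvg : goodPair (m + N) w mask vc vd = true)
    (hzs : sift (m + N) w mask L maskL idc ls zc = true)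
    (hus : sift (m + N) w mask L maskL idc ls uc = true)
    (hvs : sift (m + N) w mask L maskL idc ls vc = true)
    (hzb : allL (fun b => Nat.beq (app w mask zc b) b) (List.range m) = true)
    (hzcomm : allL (fun t => Nat.beq (comp (m + N) w mask zc t.1) (comp (m + N) w mask t.1 zc))
      gens = true)
    (hzk : Nat.beq (powC (m + N) w mask idc zc k) idc = true)
    (hp : p < m + N) (hzp : Nat.beq (app w mask zc p) p = false)
    (huv : Nat.beq (comp (m + N) w mask uc vc)
      (comp (m + N) w mask zc (comp (m + N) w mask vc uc)) = true) :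
    ∃ (Γ : Type u) (_ : Group Γ) (_ : Finite Γ) (σ : Γ →* H w' mask' e' (gens.map (·.2.2))),
      IsStemExtension σ ∧ Nat.card σ.ker = k := by
  classical
  let E : Fin N ⊕ β ≃ Fin (m + N) := EF e'
  set G : Subgroup (Equiv.Perm β) := H w' mask' e' (gens.map (·.2.2)) with hG
  -- generators
  have hgen : ∀ t ∈ gens, goodPair (m + N) w mask t.1 t.2.1 = true ∧
      allL (fun i => Nat.ble m (app w mask t.1 (m + i))) (List.range N) = true ∧
      allL (fun b => Nat.beq (app w mask t.1 b) (app w' mask' t.2.2 b))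
        (List.range m) = true := by
    intro t ht
    have := (allL_eq_true _ _).1 hgens t ht
    simpa only [blockOK, ifB_eq_true] using this
  have hT : ∀ c ∈ gens.map (·.1), ∃ g, Rep w mask E c g := by
    intro c hc
    obtain ⟨t, ht, rfl⟩ := List.mem_map.1 hc
    exact exists_rep _ (hgen t ht).1
  obtain ⟨hm, hid, -, hsem, heq, hcard⟩ := main_of_checkAll (e := E) hT hc
  set H0 : Subgroup (Equiv.Perm (Fin N ⊕ β)) := H w mask E (gens.map (·.1)) with hH0
  have hsift : ∀ {c : ℕ} {g : Equiv.Perm (Fin N ⊕ β)}, Rep w mask E c g →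
      sift (m + N) w mask L maskL idc ls c = true → g ∈ H0 := by
    intro c g hg hs
    rw [heq]
    exact sift_sound_of_sem hm hid ls hsem c g hg hs
  -- the parts are preserved
  have hle : H0 ≤ (Equiv.Perm.sumCongrHom (Fin N) β).range := by
    apply (Subgroup.closure_le _).2
    rintro g ⟨c, hc, hg⟩
    obtain ⟨t, ht, rfl⟩ := List.mem_map.1 hc
    exact mapsTo_of_rep e' hg (hgen t ht).2.1
  let π : H0 →* Equiv.Perm β := proj.comp (Subgroup.inclusion hle)
  have hπrep : ∀ (t : ℕ × ℕ × ℕ), t ∈ gens → ∀ (x : H0),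
      Rep w mask E t.1 (x : Equiv.Perm (Fin N ⊕ β)) →
      Rep w' mask' e' t.2.2 (π x) := by
    intro t ht x hx
    exact rep_proj e' (x := Subgroup.inclusion hle x) hx (hgen t ht).2.2
  have hgenH : ∀ (t : ℕ × ℕ × ℕ), t ∈ gens → ∃ x : H0,
      Rep w mask E t.1 (x : Equiv.Perm (Fin N ⊕ β)) := by
    intro t ht
    obtain ⟨g, hg⟩ := exists_rep E (hgen t ht).1
    exact ⟨⟨g, H_of_rep (List.mem_map.2 ⟨t, ht, rfl⟩) hg⟩, hg⟩
  have hr : π.range = G := by
    apply le_antisymm
    · rintro _ ⟨x, rfl⟩
      have hclos : H0 ≤ ((G.comap π).map H0.subtype) := by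
        apply (Subgroup.closure_le _).2
        rintro g ⟨c, hc, hg⟩
        obtain ⟨t, ht, rfl⟩ := List.mem_map.1 hc
        have hgH : g ∈ H0 := Subgroup.subset_closure ⟨_, List.mem_map.2 ⟨t, ht, rfl⟩, hg⟩
        refine ⟨⟨g, hgH⟩, ?_, rfl⟩
        exact H_of_rep (List.mem_map.2 ⟨t, ht, rfl⟩) (hπrep t ht ⟨g, hgH⟩ hg)
      obtain ⟨y, hy, hyx⟩ := hclos x.2
      have : y = x := Subtype.ext hyx
      rw [← this]
      exact hy
    · apply (Subgroup.closure_le _).2
      rintro g ⟨c, hc, hg⟩
      obtain ⟨t, ht, rfl⟩ := List.mem_map.1 hc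
      obtain ⟨x, hx⟩ := hgenH t ht
      exact ⟨x, (hπrep t ht x hx).unique hg⟩
  -- the central element
  obtain ⟨gz, hgz⟩ := exists_rep E hzg
  obtain ⟨gu, hgu⟩ := exists_rep E hug
  obtain ⟨gv, hgv⟩ := exists_rep E hvg
  have hgzH := hsift hgz hzs
  have hguH := hsift hgu hus
  have hgvH := hsift hgv hvs
  let z : H0 := ⟨gz, hgzH⟩
  let u : H0 := ⟨gu, hguH⟩
  let v : H0 := ⟨gv, hgvH⟩
  have hπz : π z = 1 := by
    ext b
    have h1 := proj_apply (Subgroup.inclusion hle z) b
    have h2 : (π z) b = (proj (Subgroup.inclusion hle z)) b := rfl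
    have h3 := hgz (Sum.inr b)
    have h4 := (allL_eq_true _ _).1 hzb (e' b).1 (List.mem_range.2 (e' b).2)
    have h5 : app w mask zc (e' b).1 = (e' b).1 := Nat.eq_of_beq_eq_true h4
    have h6 : ((E (Sum.inr b) : Fin (m + N)) : ℕ) = (e' b).1 := EF_inr e' b
    rw [h6, h5] at h3
    have h7 : (gz (Sum.inr b)) = Sum.inr b := by
      apply (E).injective
      apply Fin.ext
      rw [← h3, h6]
    have h8 : (Subgroup.inclusion hle z : Equiv.Perm (Fin N ⊕ β)) = gz := rfl
    rw [h8, h7] at h1
    have h9 := Sum.inr.inj h1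
    rw [h2, ← h9]
    rfl
  have hzcent : z ∈ center H0 := by
    rw [mem_center_iff]
    have hcl : H0 ≤ centralizer ({gz} : Set (Equiv.Perm (Fin N ⊕ β))) := by
      apply (Subgroup.closure_le _).2
      rintro g ⟨c, hc, hg⟩
      obtain ⟨t, ht, rfl⟩ := List.mem_map.1 hc
      rw [SetLike.mem_coe, mem_centralizer_singleton_iff]
      have h1 := (allL_eq_true _ _).1 hzcomm t ht
      have h2 := Nat.eq_of_beq_eq_true h1
      have h3 := hgz.comp hm hg
      rw [h2] at h3
      exact (hg.comp hm hgz).unique h3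
    intro y
    apply Subtype.ext
    exact mem_centralizer_singleton_iff.1 (hcl y.2)
  have hzorder : orderOf z = k := by
    have := Fact.mk hk
    apply orderOf_eq_prime
    · apply Subtype.ext
      have h1 := Rep_pow hm hid hgz k
      exact h1.eq_one hid (Nat.eq_of_beq_eq_true hzk)
    · intro h
      have h1 : gz = 1 := congrArg Subtype.val h
      have h2 := hgz ((E).symm ⟨p, hp⟩)
      rw [h1] at h2
      simp at h2
      have h3 : Nat.beq (app w mask zc p) p = true := by
        rw [h2]; exact Nat.beq_refl p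
      rw [h3] at hzp
      exact Bool.noConfusion hzp
  have hzz : z ∈ commutator H0 := by
    have h1 : gu * gv = gz * (gv * gu) := by
      have h2 := hgu.comp hm hgv
      rw [Nat.eq_of_beq_eq_true huv] at h2
      exact h2.unique (hgz.comp hm (hgv.comp hm hgu))
    have h3 : ⁅u, v⁆ = z := by
      apply Subtype.ext
      show gu * gv * gu⁻¹ * gv⁻¹ = gz
      rw [h1]
      group
    rw [← h3]
    exact Subgroup.commutator_mem_commutator (mem_top _) (mem_top _)
  have hfin : Finite H0 := inferInstance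
  obtain ⟨σ, h1, h2⟩ := CoverG.stem_of_range π G hr k (by rw [hcard, hord]) z hπz hzcent hzorder hzz
  exact ⟨H0, inferInstance, hfin, σ, h1, h2⟩

end Cfsg.Agent.Lib.Schur.CoverH
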