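import Cfsg.Agent.Lib.Schur.CoverC

/-!
# Central covers with kernel of order four

The variant of `CoverC.exists_stem_of_chain` for a central element of order four.
-/

set_option autoImplicit false

namespace Cfsg.Agent.Lib.Schur.CoverC4

open Cfsg Subgroup
open Cfsg.Agent.Lib.PermComp.Core Cfsg.Agent.Lib.Schur.CoverCert Cfsg.Agent.Lib.Schur.CoverC
open Cfsg.Agent.Lib.Schur.CoverH
open scoped commutatorElement

universe u

variable {N m w mask L maskL idc w' mask' : ℕ} {β : Type u} [Finite β]

/-- The main theorem: a stem extension with kernel of order four from a chain. -/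
theorem exists_stem_of_chain4 (e' : β ≃ Fin m) {k : ℕ} (hk : k = 4)
    {gens : List (ℕ × ℕ × ℕ)} {prog : List (ℕ × ℕ × ℕ)} {ls : List CLev}
    {zc zd uc vc p : ℕ} {Pts : List ℕ} {twits : List (ℕ × List ℕ)}
    (hm : mask = 2 ^ w - 1) (hid : ∀ i < m + N, app w mask idc i = i)
    (hgens : allL (CoverH.blockOK N m w mask w' mask') gens = true)
    (hslp : slpCheck (m + N) w mask idc (uc :: vc :: topGens (ls.map CLev.lev)) prog
      (gens.map (·.1)).reverse (gens.map (·.1)).length = true)
    (hchain : ChainP (m + N) w mask L maskL idc zc Pts ls)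
    (htw : gensOK w mask L maskL zc Pts idc (ls.map CLev.lev) (gens.map (·.1)) twits = true)
    (hord : sizes ls = Nat.card (H w' mask' e' (gens.map (·.2.2))))
    (hzg : goodPair (m + N) w mask zc zd = true)
    (hzb : allL (fun b => Nat.beq (app w mask zc b) b) (List.range m) = true)
    (hzcomm : allL (fun t => Nat.beq (comp (m + N) w mask zc t.1) (comp (m + N) w mask t.1 zc))
      gens = true)
    (hzk : Nat.beq (powC (m + N) w mask idc zc k) idc = true)
    (hp : p < m + N) (hzp : Nat.beq (app w mask zc (app w mask zc p)) p = false)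
    (huv : Nat.beq (comp (m + N) w mask uc vc)
      (comp (m + N) w mask zc (comp (m + N) w mask vc uc)) = true)
    (hbase : ∀ g ∈ H w' mask' e' (gens.map (·.2.2)), (∀ b : β, ((e' b : Fin m) : ℕ) ∈ Pts → g b = b) → g = 1)
    (hcov : ∀ i < N, ∃ r ∈ Pts, r < m + N ∧ ∃ j, iterZ w mask zc j r = m + i) :
    ∃ (Γ : Type u) (_ : Group Γ) (_ : Finite Γ) (σ : Γ →* H w' mask' e' (gens.map (·.2.2))),
      IsStemExtension σ ∧ Nat.card σ.ker = k := by
  classical
  let E : Fin N ⊕ β ≃ Fin (m + N) := EF e'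
  set G : Subgroup (Equiv.Perm β) := H w' mask' e' (gens.map (·.2.2)) with hG
  -- generators
  have hgen : ∀ t ∈ gens, goodPair (m + N) w mask t.1 t.2.1 = true ∧
      allL (fun i => Nat.ble m (app w mask t.1 (m + i))) (List.range N) = true ∧
      allL (fun b => Nat.beq (app w mask t.1 b) (app w' mask' t.2.2 b))
        (List.range m) = true := by
    intro t ht
    have := (allL_eq_true _ _).1 hgens t ht
    simpa only [CoverH.blockOK, ifB_eq_true] using this
  set H0 : Subgroup (Equiv.Perm (Fin N ⊕ β)) := H w mask E (gens.map (·.1)) with hH0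
  -- the parts are preserved
  have hle : H0 ≤ (Equiv.Perm.sumCongrHom (Fin N) β).range := by
    apply (Subgroup.closure_le _).2
    rintro g ⟨c, hc, hg⟩
    obtain ⟨t, ht, rfl⟩ := List.mem_map.1 hc
    exact mapsTo_of_rep e' hg (hgen t ht).2.1
  let π : H0 →* Equiv.Perm β := proj.comp (Subgroup.inclusion hle)
  have hπrep : ∀ (t : ℕ × ℕ × ℕ), t ∈ gens → ∀ (x : H0),
      Rep w mask E t.1 (x : Equiv.Perm (Fin N ⊕ β)) →
      Rep w' mask' e' t.2.2 (π x) := by
    intro t ht x hx
    exact rep_proj e' (x := Subgroup.inclusion hle x) hx (hgen t ht).2.2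
  have hgenH : ∀ (t : ℕ × ℕ × ℕ), t ∈ gens → ∃ x : H0,
      Rep w mask E t.1 (x : Equiv.Perm (Fin N ⊕ β)) := by
    intro t ht
    obtain ⟨g, hg⟩ := exists_rep E (hgen t ht).1
    exact ⟨⟨g, H_of_rep (List.mem_map.2 ⟨t, ht, rfl⟩) hg⟩, hg⟩
  have hr : π.range = G := by
    apply le_antisymm
    · rintro _ ⟨x, rfl⟩
      have hclos : H0 ≤ ((G.comap π).map H0.subtype) := by
        apply (Subgroup.closure_le _).2
        rintro g ⟨c, hc, hg⟩
        obtain ⟨t, ht, rfl⟩ := List.mem_map.1 hc
        have hgH : g ∈ H0 := Subgroup.subset_closure ⟨_, List.mem_map.2 ⟨t, ht, rfl⟩, hg⟩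
        refine ⟨⟨g, hgH⟩, ?_, rfl⟩
        exact H_of_rep (List.mem_map.2 ⟨t, ht, rfl⟩) (hπrep t ht ⟨g, hgH⟩ hg)
      obtain ⟨y, hy, hyx⟩ := hclos x.2
      have : y = x := Subtype.ext hyx
      rw [← this]
      exact hy
    · apply (Subgroup.closure_le _).2
      rintro g ⟨c, hc, hg⟩
      obtain ⟨t, ht, rfl⟩ := List.mem_map.1 hc
      obtain ⟨x, hx⟩ := hgenH t ht
      exact ⟨x, (hπrep t ht x hx).unique hg⟩
  -- the program
  have hT : ∀ c ∈ gens.map (·.1), ∃ g ∈ H0, Rep w mask E c g := by
    intro c hc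
    obtain ⟨t, ht, rfl⟩ := List.mem_map.1 hc
    obtain ⟨g, hg⟩ := exists_rep E (hgen t ht).1
    exact ⟨g, H_of_rep (List.mem_map.2 ⟨t, ht, rfl⟩) hg, hg⟩
  have hprog := slp_sound hm hid H0 _ prog (gens.map (·.1)).reverse (gens.map (·.1)).length (by simp)
    (fun c hc => hT c (List.mem_reverse.1 hc)) hslp
  obtain ⟨gu, hguH, hgu⟩ := hprog uc (by simp)
  obtain ⟨gv, hgvH, hgv⟩ := hprog vc (by simp)
  -- the central element
  obtain ⟨gz, hgz⟩ := exists_rep E hzg
  have hcomm' : gu * gv = gz * (gv * gu) := by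
    have h2 := hgu.comp hm hgv
    rw [Nat.eq_of_beq_eq_true huv] at h2
    exact h2.unique (hgz.comp hm (hgv.comp hm hgu))
  have hgzeq : gz = gu * gv * gu⁻¹ * gv⁻¹ := by
    rw [hcomm']
    group
  have hgzH : gz ∈ H0 := by
    rw [hgzeq]
    exact mul_mem (mul_mem (mul_mem hguH hgvH) (inv_mem hguH)) (inv_mem hgvH)
  let z : H0 := ⟨gz, hgzH⟩
  let u : H0 := ⟨gu, hguH⟩
  let v : H0 := ⟨gv, hgvH⟩
  have hπz : π z = 1 := by
    ext b
    have h1 := proj_apply (Subgroup.inclusion hle z) b
    have h2 : (π z) b = (proj (Subgroup.inclusion hle z)) b := rfl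
    have h3 := hgz (Sum.inr b)
    have h4 := (allL_eq_true _ _).1 hzb (e' b).1 (List.mem_range.2 (e' b).2)
    have h5 : app w mask zc (e' b).1 = (e' b).1 := Nat.eq_of_beq_eq_true h4
    have h6 : ((E (Sum.inr b) : Fin (m + N)) : ℕ) = (e' b).1 := EF_inr e' b
    rw [h6, h5] at h3
    have h7 : (gz (Sum.inr b)) = Sum.inr b := by
      apply (E).injective
      apply Fin.ext
      rw [← h3, h6]
    have h8 : (Subgroup.inclusion hle z : Equiv.Perm (Fin N ⊕ β)) = gz := rfl
    rw [h8, h7] at h1
    have h9 := Sum.inr.inj h1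
    rw [h2, ← h9]
    rfl
  have hzc : ∀ g ∈ H0, gz * g = g * gz := by
    have hcl : H0 ≤ centralizer ({gz} : Set (Equiv.Perm (Fin N ⊕ β))) := by
      apply (Subgroup.closure_le _).2
      rintro g ⟨c, hc, hg⟩
      obtain ⟨t, ht, rfl⟩ := List.mem_map.1 hc
      rw [SetLike.mem_coe, mem_centralizer_singleton_iff]
      have h1 := (allL_eq_true _ _).1 hzcomm t ht
      have h2 := Nat.eq_of_beq_eq_true h1
      have h3 := hgz.comp hm hg
      rw [h2] at h3
      exact (hg.comp hm hgz).unique h3
    intro g hg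
    exact (mem_centralizer_singleton_iff.1 (hcl hg)).symm
  have hzcent : z ∈ center H0 := by
    rw [mem_center_iff]
    intro y
    apply Subtype.ext
    exact (hzc y.1 y.2).symm
  have hzorder : orderOf z = k := by
    have : Fact (Nat.Prime 2) := ⟨Nat.prime_two⟩
    have h4 : orderOf z = 2 ^ (1 + 1) := by
      apply orderOf_eq_prime_pow
      · intro h
        have h1 : gz ^ (2 ^ 1) = 1 := congrArg Subtype.val h
        have h2 := hgz ((E).symm ⟨p, hp⟩)
        have h2' := hgz (gz ((E).symm ⟨p, hp⟩))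
        have h3 : gz (gz ((E).symm ⟨p, hp⟩)) = (E).symm ⟨p, hp⟩ := by
          have h5 : (gz ^ (2 ^ 1)) ((E).symm ⟨p, hp⟩) = (E).symm ⟨p, hp⟩ := by
            rw [h1]; rfl
          simpa [pow_succ, Equiv.Perm.mul_apply] using h5
        rw [h3] at h2'
        have h6 : ((E ((E).symm ⟨p, hp⟩) : Fin (m + N)) : ℕ) = p := by simp
        rw [h6] at h2 h2'
        have h7 : app w mask zc (app w mask zc p) = p := by
          rw [h2, h2']
        rw [h7] at hzp
        have h8 : Nat.beq p p = true := Nat.beq_refl p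
        rw [h8] at hzp
        exact Bool.noConfusion hzp
      · apply Subtype.ext
        have h1 := Rep_pow hm hid hgz (2 ^ (1 + 1))
        have h2 : powC (m + N) w mask idc zc (2 ^ (1 + 1)) = idc := by
          rw [hk] at hzk
          exact Nat.eq_of_beq_eq_true hzk
        rw [h2] at h1
        exact h1.eq_one hid rfl
    rw [h4, hk]
    rfl
  have hzz : z ∈ commutator H0 := by
    have h3 : ⁅u, v⁆ = z := by
      apply Subtype.ext
      show gu * gv * gu⁻¹ * gv⁻¹ = gz
      exact hgzeq.symm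
    rw [← h3]
    exact Subgroup.commutator_mem_commutator (mem_top _) (mem_top _)
  -- elements of `H0` agreeing on the points are equal
  have hag : ∀ a ∈ H0, ∀ b ∈ H0, (∀ x, ((E x : Fin (m + N)) : ℕ) ∈ Pts → a x = b x) → a = b := by
    intro a ha b hb hab
    have hπa : π ⟨a, ha⟩ ∈ G := hr ▸ ⟨_, rfl⟩
    have hπb : π ⟨b, hb⟩ ∈ G := hr ▸ ⟨_, rfl⟩
    have hproj : ∀ (c : H0) (x : β), (c : Equiv.Perm (Fin N ⊕ β)) (Sum.inr x) = Sum.inr (π c x) := by
      intro c x
      exact proj_apply (Subgroup.inclusion hle c) x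
    have hone : (π ⟨b, hb⟩)⁻¹ * π ⟨a, ha⟩ = 1 := by
      apply hbase _ (mul_mem (inv_mem hπb) hπa)
      intro x hx
      have h1 : ((E (Sum.inr x) : Fin (m + N)) : ℕ) ∈ Pts := by
        have h6 : ((E (Sum.inr x) : Fin (m + N)) : ℕ) = (e' x).1 := EF_inr e' x
        rw [h6]; exact hx
      have h2 := hab _ h1
      have h3 := hproj ⟨a, ha⟩ x
      have h4 := hproj ⟨b, hb⟩ x
      simp only at h3 h4
      rw [h3, h4] at h2
      have h5 := Sum.inr.inj h2
      rw [Equiv.Perm.mul_apply, h5]
      simp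
    have hpeq : π ⟨a, ha⟩ = π ⟨b, hb⟩ := by
      have := mul_eq_one_iff_eq_inv.1 hone
      exact (inv_mul_eq_one.1 hone).symm
    ext x
    cases x with
    | inr x =>
      have h3 := hproj ⟨a, ha⟩ x
      have h4 := hproj ⟨b, hb⟩ x
      simp only at h3 h4
      rw [h3, h4, hpeq]
    | inl i =>
      obtain ⟨r, hr', hrlt, j, hj⟩ := hcov i.1 i.2
      let xr : Fin N ⊕ β := (E).symm ⟨r, hrlt⟩
      have hxr : ((E xr : Fin (m + N)) : ℕ) = r := by simp [xr]
      have hiter := iterZ_spec (e := E) hgz j xr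
      rw [hxr, hj] at hiter
      have hinl : gz ^ j • xr = Sum.inl i := by
        apply (E).injective
        apply Fin.ext
        have h6 : ((E (Sum.inl i) : Fin (m + N)) : ℕ) = m + i.1 := EF_inl e' i
        rw [h6, hiter]
        rfl
      have hcomm_a : Commute gz a := (hzc a ha)
      have hcomm_b : Commute gz b := (hzc b hb)
      have h7 : a (Sum.inl i) = (gz ^ j) (a xr) := by
        rw [← hinl]
        show a ((gz ^ j) xr) = _
        have := ((hcomm_a.pow_left j).eq)
        have h8 := congrArg (fun f : Equiv.Perm _ => f xr) this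
        simpa [Equiv.Perm.mul_apply] using h8.symm
      have h9 : b (Sum.inl i) = (gz ^ j) (b xr) := by
        rw [← hinl]
        show b ((gz ^ j) xr) = _
        have := ((hcomm_b.pow_left j).eq)
        have h8 := congrArg (fun f : Equiv.Perm _ => f xr) this
        simpa [Equiv.Perm.mul_apply] using h8.symm
      rw [h7, h9, hab xr (by rw [hxr]; exact hr')]
  -- the chain
  have hrepS : ∀ c ∈ topGens (ls.map CLev.lev), ∃ g ∈ H0, Rep w mask E c g := fun c hc =>
    hprog c (by simp [hc])
  have hK0 : KK w mask E zc (ls.map CLev.lev) ≤ H0 := by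
    apply (Subgroup.closure_le _).2
    rintro g ⟨c, hc, hg⟩
    rcases List.mem_cons.1 hc with rfl | hc
    · rw [hg.unique hgz]; exact hgzH
    · obtain ⟨g', hg', hr'⟩ := hrepS c hc
      rw [hg.unique hr']; exact hg'
  obtain ⟨hLS, hcardc⟩ := chain_spec (e := E) (P := Pts) (L := L) (maskL := maskL) (idc := idc) hm hid H0 hag hgz hzc ls hK0
    (fun c hc => (hrepS c hc).imp fun g hg => hg.2) hchain
  -- all of the group
  have hH0K : H0 ≤ KK w mask E zc (ls.map CLev.lev) := by
    apply (Subgroup.closure_le _).2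
    rintro g ⟨c, hc, hg⟩
    obtain ⟨a, ha⟩ := gensOK_spec _ _ _ _ htw c hc
    simp only [relOK, ifB_eq_true] at ha
    obtain ⟨hv, hp'⟩ := ha
    obtain ⟨W, hW, hw⟩ := walk_spec hgz a.1 _ _ hLS hv
    have hgH : g ∈ H0 := H_of_rep hc hg
    have : g = W := by
      apply hag _ hgH _ (hK0 hW)
      intro x hx
      have h6 := (allL_eq_true _ _).1 hp' _ hx
      have h7 := Nat.eq_of_beq_eq_true h6
      rw [hw x] at h7
      have h8 : app w mask idc (E x) = E x := hid _ (E x).2
      rw [h8, hg x] at h7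
      have h9 := (E).injective (Fin.ext h7)
      exact h9
    rw [this]
    exact hW
  have hKz : Nat.card (KK w mask E zc []) = k := by
    have : KK w mask E zc [] = zpowers gz := by
      rw [zpowers_eq_closure]
      show Subgroup.closure _ = _
      congr 1
      ext g
      constructor
      · rintro ⟨c, hc, hg⟩
        have : c = zc := by simpa [topGens] using hc
        subst this
        exact hg.unique hgz
      · intro hg
        have : g = gz := hg
        subst this
        exact ⟨zc, by simp, hgz⟩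
    rw [this, Nat.card_zpowers]
    have h1 : orderOf gz = orderOf z := (Subgroup.orderOf_mk _ _).symm
    rw [h1, hzorder]
  have hfin : Finite H0 := inferInstance
  have hcardle : Nat.card H0 ≤ k * Nat.card G := by
    have h1 : Nat.card H0 ≤ Nat.card (KK w mask E zc (ls.map CLev.lev)) :=
      Subgroup.card_le_of_le hH0K
    rw [hKz, hord, mul_comm] at hcardc
    exact h1.trans hcardc
  have hcardge : k * Nat.card G ≤ Nat.card H0 := by
    have h1 := Subgroup.card_mul_index π.ker
    rw [Subgroup.index_ker, hr] at h1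
    rw [← h1]
    apply Nat.mul_le_mul_right
    have h2 : zpowers z ≤ π.ker := by
      rw [zpowers_le]
      exact hπz
    have h3 := Subgroup.card_le_of_le h2
    rwa [Nat.card_zpowers, hzorder] at h3
  obtain ⟨σ, h1, h2⟩ := CoverG.stem_of_range π G hr k (le_antisymm hcardle hcardge) z hπz hzcent hzorder hzz
  exact ⟨H0, inferInstance, hfin, σ, h1, h2⟩

end Cfsg.Agent.Lib.Schur.CoverC4
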