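import Cfsg.Agent.Lib.Schur.CoverH

/-!
# Central covers: a cheap order check

To bound the order of a group `H0` of permutations we use a descending chain of subgroups
`K_0 = H0 ≥ K_1 ≥ ... ≥ K_r = ⟨z⟩`, `z` central, with tables of elements `U` of `K_i` such that
`s * U_x` lies in `U_y * K_{i+1}` for all generators `s` of `K_i` and all `x`.  The equations between
elements are only checked on a list `P` of points such that elements of `H0` agreeing on `P` are equal.
-/

set_option autoImplicit false

namespace Cfsg.Agent.Lib.Schur.CoverC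

open Cfsg Subgroup
open Cfsg.Agent.Lib.PermComp.Core Cfsg.Agent.Lib.Schur.CoverCert

universe u

/-- A level: the group, the table of elements and the program for the next generators. -/
structure CLev where
  /-- generators and table of elements -/
  lev : Lev
  /-- program for the generators of the next level -/
  prog : List (ℕ × ℕ × ℕ)

section Check

variable (n w mask L maskL idc z : ℕ) (P : List ℕ)

/-- Iterating `z`. -/
noncomputable def iterZ (j p : ℕ) : ℕ := Nat.rec p (fun _ ih => app w mask z ih) j

/-- The image of a point under the product of table elements and a power of `z`. -/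
noncomputable def walkL (j : ℕ) : List Lev → List ℕ → ℕ → ℕ :=
  fun ls => List.rec (motive := fun _ => List ℕ → ℕ → ℕ)
    (fun _ p => iterZ w mask z j p)
    (fun l _ ih ys p =>
      List.rec (motive := fun _ => ℕ) (ih [] p)
        (fun y ys' _ => app w mask (app L maskL l.U y) (ih ys' p)) ys) ls

/-- The positions are in the tables. -/
noncomputable def validW : List Lev → List ℕ → Bool :=
  fun ls => List.rec (motive := fun _ => List ℕ → Bool)
    (fun _ => true)
    (fun l _ ih ys =>
      List.rec (motive := fun _ => Bool) true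
        (fun y ys' _ => ifB (bit l.orb y) (ih ys')) ys) ls

/-- One relation: `s * ux` is a product of table elements and a power of `z`, on the points `P`. -/
noncomputable def relOK (s ux : ℕ) (ls : List Lev) (wit : ℕ × List ℕ) : Bool :=
  ifB (validW ls wit.2) <|
  allL (fun p => Nat.beq (app w mask s (app w mask ux p)) (walkL w mask L maskL z wit.1 ls wit.2 p)) P

/-- All generators, for one table element. -/
noncomputable def gensOK (ux : ℕ) (ls : List Lev) : List ℕ → List (ℕ × List ℕ) → Bool :=
  fun gens => List.rec (motive := fun _ => List (ℕ × List ℕ) → Bool)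
    (fun _ => true)
    (fun s _ ih ws =>
      List.rec (motive := fun _ => Bool) false
        (fun a ws' _ => ifB (relOK w mask L maskL z P s ux ls a) (ih ws')) ws) gens

/-- All table elements. -/
noncomputable def rowsOK (U : ℕ) (gens : List ℕ) (ls : List Lev) :
    List ℕ → List (List (ℕ × List ℕ)) → Bool :=
  fun pts => List.rec (motive := fun _ => List (List (ℕ × List ℕ)) → Bool)
    (fun _ => true)
    (fun x _ ih rows =>
      List.rec (motive := fun _ => Bool) false
        (fun r rs _ => force (app L maskL U x) fun ux =>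
          ifB (gensOK w mask L maskL z P ux ls gens r) (ih rs)) rows) pts

/-- The checks at one level, without the relations. -/
noncomputable def levA (l : CLev) (ls : List CLev) : Bool :=
  ifB (Nat.beq (app L maskL l.lev.U l.lev.base) idc) <|
  ifB (treeOK n w mask L maskL (z :: l.lev.gens) l.lev.U l.lev.tree (Nat.shiftLeft 1 l.lev.base)) <|
  ifB (Nat.beq (treeMem l.lev.tree (Nat.shiftLeft 1 l.lev.base)) l.lev.orb) <|
  slpCheck n w mask idc (topGens (ls.map CLev.lev)) l.prog (z :: l.lev.gens).reverse
    (Nat.succ l.lev.gens.length)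

/-- The relations at one level. -/
def LevB (l : CLev) (ls : List CLev) : Prop :=
  ∀ x ∈ ptsOf l.lev, ∀ s ∈ l.lev.gens, ∃ a,
    relOK w mask L maskL z P s (app L maskL l.lev.U x) (l.lev :: ls.map CLev.lev) a = true

/-- The whole chain. -/
def ChainP : List CLev → Prop
  | [] => True
  | l :: t => ChainP t ∧ levA n w mask L maskL idc z l t = true ∧ LevB w mask L maskL z P l t

/-- The product of the sizes of the tables. -/
def sizes : List CLev → ℕ
  | [] => 1
  | l :: ls => (l.lev.tree.length + 1) * sizes ls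

end Check

section Sem

variable {α : Type u} {n w mask L maskL idc z : ℕ} {e : α ≃ Fin n} {P : List ℕ}

/-- The group of a list of levels. -/
def KK (w mask : ℕ) (e : α ≃ Fin n) (z : ℕ) (ls : List Lev) : Subgroup (Equiv.Perm α) :=
  H w mask e (z :: topGens ls)

/-- What the checks give. -/
def LS (w mask : ℕ) (e : α ≃ Fin n) (L maskL z : ℕ) : List Lev → Prop
  | [] => True
  | l :: ls => (∀ y, bit l.orb y = true → ∃ g ∈ KK w mask e z (l :: ls), Rep w mask e (app L maskL l.U y) g) ∧
      KK w mask e z ls ≤ KK w mask e z (l :: ls) ∧ LS w mask e L maskL z ls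

lemma iterZ_spec {gz : Equiv.Perm α} (hz : Rep w mask e z gz) (j : ℕ) (a : α) :
    iterZ w mask z j (e a) = e ((gz ^ j) a) := by
  induction j with
  | zero => rfl
  | succ j ih =>
    have : iterZ w mask z (j + 1) (e a) = app w mask z (iterZ w mask z j (e a)) := rfl
    rw [this, ih, pow_succ', Equiv.Perm.mul_apply]
    exact hz _

lemma walkL_nil (j : ℕ) (ys : List ℕ) (p : ℕ) :
    walkL w mask L maskL z j [] ys p = iterZ w mask z j p := rfl

lemma walkL_cons_nil (j : ℕ) (l : Lev) (ls : List Lev) (p : ℕ) :
    walkL w mask L maskL z j (l :: ls) [] p = walkL w mask L maskL z j ls [] p := rfl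

lemma walkL_cons_cons (j : ℕ) (l : Lev) (ls : List Lev) (y : ℕ) (ys : List ℕ) (p : ℕ) :
    walkL w mask L maskL z j (l :: ls) (y :: ys) p =
      app w mask (app L maskL l.U y) (walkL w mask L maskL z j ls ys p) := rfl

lemma validW_cons_cons (l : Lev) (ls : List Lev) (y : ℕ) (ys : List ℕ) :
    validW (l :: ls) (y :: ys) = ifB (bit l.orb y) (validW ls ys) := rfl

lemma validW_nil_right (ls : List Lev) : validW ls [] = true := by
  cases ls <;> rfl

/-- The product of table elements lies in the group. -/
theorem walk_spec {gz : Equiv.Perm α} (hz : Rep w mask e z gz) (j : ℕ) :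
    ∀ (ls : List Lev) (ys : List ℕ), LS w mask e L maskL z ls → validW ls ys = true →
      ∃ g ∈ KK w mask e z ls, ∀ a, walkL w mask L maskL z j ls ys (e a) = e (g a) := by
  intro ls
  induction ls with
  | nil =>
    intro ys _ _
    refine ⟨gz ^ j, ?_, fun a => by rw [walkL_nil, iterZ_spec hz]⟩
    exact pow_mem (H_of_rep (List.mem_cons_self) hz) _
  | cons l ls ih =>
    rintro ys ⟨h1, h2, h3⟩ hv
    cases ys with
    | nil =>
      obtain ⟨g, hg, hw⟩ := ih [] h3 (validW_nil_right _)
      exact ⟨g, h2 hg, fun a => by rw [walkL_cons_nil, hw]⟩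
    | cons y ys =>
      rw [validW_cons_cons, ifB_eq_true] at hv
      obtain ⟨g, hg, hw⟩ := ih ys h3 hv.2
      obtain ⟨u, hu, hur⟩ := h1 y hv.1
      refine ⟨u * g, mul_mem hu (h2 hg), fun a => ?_⟩
      rw [walkL_cons_cons, hw, Equiv.Perm.mul_apply]
      exact hur _

/-- The refined version for a nonempty list: the first factor comes from the table. -/
theorem walk_spec' {gz : Equiv.Perm α} (hz : Rep w mask e z gz) (j : ℕ) {idc : ℕ}
    (hid : ∀ i < n, app w mask idc i = i) {l : Lev} {ls : List Lev} {ys : List ℕ}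
    (hU : app L maskL l.U l.base = idc) (hb : bit l.orb l.base = true)
    (hLS : LS w mask e L maskL z ls)
    (h1 : ∀ y, bit l.orb y = true → ∃ g ∈ KK w mask e z (l :: ls), Rep w mask e (app L maskL l.U y) g)
    (hv : validW (l :: ls) ys = true) :
    ∃ y, bit l.orb y = true ∧ ∃ u ∈ KK w mask e z (l :: ls), Rep w mask e (app L maskL l.U y) u ∧
      ∃ k ∈ KK w mask e z ls, ∀ a, walkL w mask L maskL z j (l :: ls) ys (e a) = e ((u * k) a) := by
  cases ys with
  | nil =>
    obtain ⟨k, hk, hw⟩ := walk_spec hz j ls [] hLS (validW_nil_right _)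
    refine ⟨l.base, hb, 1, one_mem _, ?_, k, hk, fun a => ?_⟩
    · rw [hU]; exact rep_one hid
    · rw [walkL_cons_nil, hw, one_mul]
  | cons y ys =>
    rw [validW_cons_cons, ifB_eq_true] at hv
    obtain ⟨k, hk, hw⟩ := walk_spec hz j ls ys hLS hv.2
    obtain ⟨u, hu, hur⟩ := h1 y hv.1
    refine ⟨y, hv.1, u, hu, hur, k, hk, fun a => ?_⟩
    rw [walkL_cons_cons, hw, Equiv.Perm.mul_apply]
    exact hur _

lemma gensOK_cons (ux : ℕ) (ls : List Lev) (s : ℕ) (gens : List ℕ) (a : ℕ × List ℕ)
    (ws : List (ℕ × List ℕ)) :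
    gensOK w mask L maskL z P ux ls (s :: gens) (a :: ws) =
      ifB (relOK w mask L maskL z P s ux ls a) (gensOK w mask L maskL z P ux ls gens ws) := rfl

lemma gensOK_spec (ux : ℕ) (ls : List Lev) :
    ∀ (gens : List ℕ) (ws : List (ℕ × List ℕ)), gensOK w mask L maskL z P ux ls gens ws = true →
      ∀ s ∈ gens, ∃ a, relOK w mask L maskL z P s ux ls a = true := by
  intro gens
  induction gens with
  | nil => intro _ _ s hs; simp at hs
  | cons s gens ih =>
    intro ws h t ht
    cases ws with
    | nil => exact absurd h (by simp [gensOK])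
    | cons a ws =>
      rw [gensOK_cons, ifB_eq_true] at h
      rcases List.mem_cons.1 ht with rfl | ht
      · exact ⟨a, h.1⟩
      · exact ih ws h.2 t ht

lemma rowsOK_cons (U : ℕ) (gens : List ℕ) (ls : List Lev) (x : ℕ) (pts : List ℕ)
    (r : List (ℕ × List ℕ)) (rs : List (List (ℕ × List ℕ))) :
    rowsOK w mask L maskL z P U gens ls (x :: pts) (r :: rs) =
      ifB (gensOK w mask L maskL z P (app L maskL U x) ls gens r)
        (rowsOK w mask L maskL z P U gens ls pts rs) := by
  have : rowsOK w mask L maskL z P U gens ls (x :: pts) (r :: rs) =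
      force (app L maskL U x) (fun ux => ifB (gensOK w mask L maskL z P ux ls gens r)
        (rowsOK w mask L maskL z P U gens ls pts rs)) := rfl
  rw [this, force_eq]

lemma rowsOK_spec (U : ℕ) (gens : List ℕ) (ls : List Lev) :
    ∀ (pts : List ℕ) (rows : List (List (ℕ × List ℕ))), rowsOK w mask L maskL z P U gens ls pts rows = true →
      ∀ x ∈ pts, ∀ s ∈ gens, ∃ a, relOK w mask L maskL z P s (app L maskL U x) ls a = true := by
  intro pts
  induction pts with
  | nil => intro _ _ x hx; simp at hx
  | cons x pts ih =>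
    intro rows h y hy
    cases rows with
    | nil => exact absurd h (by simp [rowsOK])
    | cons r rs =>
      rw [rowsOK_cons, ifB_eq_true] at h
      rcases List.mem_cons.1 hy with rfl | hy
      · exact gensOK_spec _ _ _ _ h.1
      · exact ih rs h.2 y hy

lemma card_subtype_mem_le (l : List ℕ) : Nat.card {y // y ∈ l} ≤ l.length := by
  classical
  have : Nat.card {y // y ∈ l} = l.toFinset.card := by
    rw [Nat.card_eq_fintype_card]
    exact Fintype.card_of_subtype _ (fun x => List.mem_toFinset)
  rw [this]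
  exact List.toFinset_card_le l

/-- The main induction. -/
theorem chain_spec [Finite α] (hm : mask = 2 ^ w - 1) (hid : ∀ i < n, app w mask idc i = i)
    (H0 : Subgroup (Equiv.Perm α))
    (hag : ∀ a ∈ H0, ∀ b ∈ H0, (∀ x : α, (e x : ℕ) ∈ P → a x = b x) → a = b)
    {gz : Equiv.Perm α} (hz : Rep w mask e z gz) (hzc : ∀ g ∈ H0, gz * g = g * gz) :
    ∀ ls : List CLev, KK w mask e z (ls.map CLev.lev) ≤ H0 →
      (∀ c ∈ topGens (ls.map CLev.lev), ∃ g, Rep w mask e c g) →
      ChainP n w mask L maskL idc z P ls →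
      LS w mask e L maskL z (ls.map CLev.lev) ∧
        Nat.card (KK w mask e z (ls.map CLev.lev)) ≤ sizes ls * Nat.card (KK w mask e z []) := by
  intro ls
  induction ls with
  | nil =>
    intro _ _ _
    exact ⟨trivial, by simp [sizes]⟩
  | cons l ls ih =>
    intro hle hrep hc
    obtain ⟨hc1, hc2, hrows⟩ := hc
    simp only [levA, ifB_eq_true] at hc2
    obtain ⟨h1, h2, h3, h4⟩ := hc2
    have hU0 : app L maskL l.lev.U l.lev.base = idc := Nat.eq_of_beq_eq_true h1
    have hgensrep : ∀ c ∈ z :: l.lev.gens, ∃ g, Rep w mask e c g := by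
      intro c hc
      rcases List.mem_cons.1 hc with rfl | hc
      · exact ⟨gz, hz⟩
      · exact hrep c hc
    set K : Subgroup (Equiv.Perm α) := KK w mask e z (l.lev :: ls.map CLev.lev) with hK
    have hKH : K = H w mask e (z :: l.lev.gens) := rfl
    -- the next generators
    have hslp : ∀ c ∈ topGens (ls.map CLev.lev), ∃ g ∈ K, Rep w mask e c g := by
      apply slp_sound hm hid K (topGens (ls.map CLev.lev)) l.prog (z :: l.lev.gens).reverse
        (Nat.succ l.lev.gens.length) (by simp) _ h4
      intro c hc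
      have hc' : c ∈ z :: l.lev.gens := List.mem_reverse.1 hc
      obtain ⟨g, hg⟩ := hgensrep c hc'
      exact ⟨g, H_of_rep hc' hg, hg⟩
    have hzK : gz ∈ K := H_of_rep (List.mem_cons_self) hz
    have hnest : KK w mask e z (ls.map CLev.lev) ≤ K := by
      apply (Subgroup.closure_le _).2
      rintro g ⟨c, hc, hg⟩
      rcases List.mem_cons.1 hc with rfl | hc
      · rw [hg.unique hz]; exact hzK
      · obtain ⟨g', hg', hr⟩ := hslp c hc
        rw [hg.unique hr]; exact hg'
    obtain ⟨hLS, hcard⟩ := ih (hnest.trans hle) (fun c hc => (hslp c hc).imp fun g hg => hg.2) hc1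
    have hzK' : gz ∈ KK w mask e z (ls.map CLev.lev) := H_of_rep (List.mem_cons_self) hz
    -- the table
    have hbit0 : ∀ x, bit (Nat.shiftLeft 1 l.lev.base) x = true → x = l.lev.base :=
      fun x hx => (bit_shift_one _ _).1 hx
    have htab : ∀ y, bit l.lev.orb y = true → ∃ g ∈ K, Rep w mask e (app L maskL l.lev.U y) g := by
      intro y hy
      rw [← Nat.eq_of_beq_eq_true h3] at hy
      refine treeOK_good hm hgensrep _ _ h2 ?_ y hy
      intro x hx
      rw [hbit0 x hx, hU0]
      exact ⟨1, one_mem _, rep_one hid⟩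
    have hbit : ∀ x, bit l.lev.orb x = true ↔ x ∈ ptsOf l.lev := by
      intro x
      rw [← Nat.eq_of_beq_eq_true h3, treeMem_bit, bit_shift_one]
      simp [ptsOf]
    have hLS' : LS w mask e L maskL z (l.lev :: ls.map CLev.lev) := ⟨htab, hnest, hLS⟩
    refine ⟨hLS', ?_⟩
    -- the covering
    classical
    let u : ℕ → Equiv.Perm α := fun y =>
      if h : ∃ g ∈ K, Rep w mask e (app L maskL l.lev.U y) g then h.choose else 1
    have hu : ∀ y, bit l.lev.orb y = true → u y ∈ K ∧ Rep w mask e (app L maskL l.lev.U y) (u y) := by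
      intro y hy
      have hex := htab y hy
      have : u y = hex.choose := dif_pos hex
      rw [this]
      exact hex.choose_spec
    have hcover : ∀ h ∈ K, ∃ y, ∃ (_ : y ∈ ptsOf l.lev), ∃ k ∈ KK w mask e z (ls.map CLev.lev), h = u y * k := by
      intro h hh
      refine closure_induction_left_finite
        (P := fun h => ∃ y, ∃ (_ : y ∈ ptsOf l.lev), ∃ k ∈ KK w mask e z (ls.map CLev.lev), h = u y * k) ?_ ?_ hh
      · have hb : bit l.lev.orb l.lev.base = true := (hbit _).2 (by simp [ptsOf])
        refine ⟨l.lev.base, (hbit _).1 hb, 1, one_mem _, ?_⟩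
        have h1 := (hu _ hb).2
        rw [hU0] at h1
        rw [mul_one]
        exact (h1.unique (rep_one hid)).symm
      · rintro s ⟨c, hc, hs⟩ h ⟨y, hy, k, hk, rfl⟩
        have hyb := (hbit y).2 hy
        rcases List.mem_cons.1 hc with rfl | hc
        · -- the central element
          have hs' : s = gz := hs.unique hz
          subst hs'
          refine ⟨y, hy, s * k, mul_mem hzK' hk, ?_⟩
          have := hzc (u y) (hle (hu y hyb).1)
          rw [← mul_assoc, this, mul_assoc]
        · obtain ⟨a, ha⟩ := hrows y hy c hc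
          simp only [relOK, ifB_eq_true] at ha
          obtain ⟨hv, hp⟩ := ha
          obtain ⟨y', hy', v, hv1, hv2, k', hk', hw⟩ :=
            walk_spec' (L := L) (maskL := maskL) hz a.1 hid hU0 ((hbit _).2 (by simp [ptsOf])) hLS htab hv
          have hsK : s ∈ K := H_of_rep (List.mem_cons_of_mem _ hc) hs
          have heq : s * u y = u y' * k' := by
            have hvu : v = u y' := hv2.unique (hu y' hy').2
            subst hvu
            apply hag _ (hle (mul_mem hsK (hu y hyb).1)) _ (hle (mul_mem hv1 (hnest hk')))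
            intro x hx
            have h6 := (allL_eq_true _ _).1 hp _ hx
            have h7 := Nat.eq_of_beq_eq_true h6
            rw [hw x] at h7
            have h8 : app w mask (app L maskL l.lev.U y) (e x) = e (u y x) := (hu y hyb).2 x
            rw [h8, hs (u y x)] at h7
            have h9 := e.injective (Fin.ext h7)
            simpa using h9
          refine ⟨y', (hbit _).1 hy', k' * k, mul_mem hk' hk, ?_⟩
          rw [← mul_assoc, heq, mul_assoc]
    -- the count
    have hsz : Nat.card {y // y ∈ ptsOf l.lev} ≤ l.lev.tree.length + 1 := by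
      have := card_subtype_mem_le (ptsOf l.lev)
      simpa [ptsOf] using this
    have hfin : Finite (KK w mask e z (ls.map CLev.lev)) := inferInstance
    have hinj : Nat.card K ≤ Nat.card ({y // y ∈ ptsOf l.lev} × KK w mask e z (ls.map CLev.lev)) := by
      choose fy hfy fk hfk hf using fun h : K => hcover h.1 h.2
      apply Nat.card_le_card_of_injective
        (fun h : K => ((⟨fy h, hfy h⟩ : {y // y ∈ ptsOf l.lev}), (⟨fk h, hfk h⟩ : KK w mask e z (ls.map CLev.lev))))
      intro a b hab
      apply Subtype.ext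
      rw [hf a, hf b]
      have h1 : fy a = fy b := congrArg (fun q => (q.1 : {y // y ∈ ptsOf l.lev}).1) hab
      have h2 : fk a = fk b := congrArg (fun q => (q.2 : KK w mask e z (ls.map CLev.lev)).1) hab
      rw [h1, h2]
    rw [Nat.card_prod] at hinj
    calc Nat.card K ≤ Nat.card {y // y ∈ ptsOf l.lev} * Nat.card (KK w mask e z (ls.map CLev.lev)) := hinj
      _ ≤ (l.lev.tree.length + 1) * (sizes ls * Nat.card (KK w mask e z [])) :=
          Nat.mul_le_mul hsz hcard
      _ = sizes (l :: ls) * Nat.card (KK w mask e z []) := by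
          simp only [sizes]; ring

end Sem

section Main

open Cfsg.Agent.Lib.Schur.CoverH
open scoped commutatorElement

variable {N m w mask L maskL idc w' mask' : ℕ} {β : Type u} [Finite β]

/-- An element of a stabilizer chain fixing all base points is trivial. -/
theorem eq_one_of_fix_base {n : ℕ} {α : Type*} {e : α ≃ Fin n} {w mask L maskL : ℕ} :
    ∀ ls : List Lev, Sem w mask e L maskL ls → ∀ g ∈ H w mask e (topGens ls),
      (∀ a : α, (e a : ℕ) ∈ ls.map Lev.base → g a = a) → g = 1 := by
  intro ls
  induction ls with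
  | nil =>
    intro _ g hg _
    have h : H w mask e (topGens ([] : List Lev)) = ⊥ := H_nil
    rw [h] at hg
    exact hg
  | cons l ls ih =>
    rintro ⟨⟨b, u, hbe, hub, htab, -, -, -, hnest, hKb, hfact⟩, hls⟩ g hg hfix
    obtain ⟨a, ha, k, hk, rfl⟩ := hfact g hg
    have h1 : (u a * k) b = a := by
      rw [Equiv.Perm.mul_apply, hKb k hk]; exact (htab a ha).2.1
    have h2 : (u a * k) b = b := hfix b (by simp [hbe])
    have hab : a = b := h1.symm.trans h2
    subst hab
    rw [hub, one_mul] at hfix ⊢
    exact ih hls k hk (fun c hc => hfix c (by simp [hc]))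

/-- The main theorem: a stem extension from a chain. -/
theorem exists_stem_of_chain (e' : β ≃ Fin m) {k : ℕ} (hk : k.Prime)
    {gens : List (ℕ × ℕ × ℕ)} {prog : List (ℕ × ℕ × ℕ)} {ls : List CLev}
    {zc zd uc vc p : ℕ} {Pts : List ℕ} {twits : List (ℕ × List ℕ)}
    (hm : mask = 2 ^ w - 1) (hid : ∀ i < m + N, app w mask idc i = i)
    (hgens : allL (CoverH.blockOK N m w mask w' mask') gens = true)
    (hslp : slpCheck (m + N) w mask idc (uc :: vc :: topGens (ls.map CLev.lev)) prog
      (gens.map (·.1)).reverse (gens.map (·.1)).length = true)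
    (hchain : ChainP (m + N) w mask L maskL idc zc Pts ls)
    (htw : gensOK w mask L maskL zc Pts idc (ls.map CLev.lev) (gens.map (·.1)) twits = true)
    (hord : sizes ls = Nat.card (H w' mask' e' (gens.map (·.2.2))))
    (hzg : goodPair (m + N) w mask zc zd = true)
    (hzb : allL (fun b => Nat.beq (app w mask zc b) b) (List.range m) = true)
    (hzcomm : allL (fun t => Nat.beq (comp (m + N) w mask zc t.1) (comp (m + N) w mask t.1 zc))
      gens = true)
    (hzk : Nat.beq (powC (m + N) w mask idc zc k) idc = true)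
    (hp : p < m + N) (hzp : Nat.beq (app w mask zc p) p = false)
    (huv : Nat.beq (comp (m + N) w mask uc vc)
      (comp (m + N) w mask zc (comp (m + N) w mask vc uc)) = true)
    (hbase : ∀ g ∈ H w' mask' e' (gens.map (·.2.2)), (∀ b : β, ((e' b : Fin m) : ℕ) ∈ Pts → g b = b) → g = 1)
    (hcov : ∀ i < N, ∃ r ∈ Pts, r < m + N ∧ ∃ j, iterZ w mask zc j r = m + i) :
    ∃ (Γ : Type u) (_ : Group Γ) (_ : Finite Γ) (σ : Γ →* H w' mask' e' (gens.map (·.2.2))),
      IsStemExtension σ ∧ Nat.card σ.ker = k := by
  classical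
  let E : Fin N ⊕ β ≃ Fin (m + N) := EF e'
  set G : Subgroup (Equiv.Perm β) := H w' mask' e' (gens.map (·.2.2)) with hG
  -- generators
  have hgen : ∀ t ∈ gens, goodPair (m + N) w mask t.1 t.2.1 = true ∧
      allL (fun i => Nat.ble m (app w mask t.1 (m + i))) (List.range N) = true ∧
      allL (fun b => Nat.beq (app w mask t.1 b) (app w' mask' t.2.2 b))
        (List.range m) = true := by
    intro t ht
    have := (allL_eq_true _ _).1 hgens t ht
    simpa only [CoverH.blockOK, ifB_eq_true] using this
  set H0 : Subgroup (Equiv.Perm (Fin N ⊕ β)) := H w mask E (gens.map (·.1)) with hH0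
  -- the parts are preserved
  have hle : H0 ≤ (Equiv.Perm.sumCongrHom (Fin N) β).range := by
    apply (Subgroup.closure_le _).2
    rintro g ⟨c, hc, hg⟩
    obtain ⟨t, ht, rfl⟩ := List.mem_map.1 hc
    exact mapsTo_of_rep e' hg (hgen t ht).2.1
  let π : H0 →* Equiv.Perm β := proj.comp (Subgroup.inclusion hle)
  have hπrep : ∀ (t : ℕ × ℕ × ℕ), t ∈ gens → ∀ (x : H0),
      Rep w mask E t.1 (x : Equiv.Perm (Fin N ⊕ β)) →
      Rep w' mask' e' t.2.2 (π x) := by
    intro t ht x hx
    exact rep_proj e' (x := Subgroup.inclusion hle x) hx (hgen t ht).2.2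
  have hgenH : ∀ (t : ℕ × ℕ × ℕ), t ∈ gens → ∃ x : H0,
      Rep w mask E t.1 (x : Equiv.Perm (Fin N ⊕ β)) := by
    intro t ht
    obtain ⟨g, hg⟩ := exists_rep E (hgen t ht).1
    exact ⟨⟨g, H_of_rep (List.mem_map.2 ⟨t, ht, rfl⟩) hg⟩, hg⟩
  have hr : π.range = G := by
    apply le_antisymm
    · rintro _ ⟨x, rfl⟩
      have hclos : H0 ≤ ((G.comap π).map H0.subtype) := by
        apply (Subgroup.closure_le _).2
        rintro g ⟨c, hc, hg⟩
        obtain ⟨t, ht, rfl⟩ := List.mem_map.1 hc
        have hgH : g ∈ H0 := Subgroup.subset_closure ⟨_, List.mem_map.2 ⟨t, ht, rfl⟩, hg⟩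
        refine ⟨⟨g, hgH⟩, ?_, rfl⟩
        exact H_of_rep (List.mem_map.2 ⟨t, ht, rfl⟩) (hπrep t ht ⟨g, hgH⟩ hg)
      obtain ⟨y, hy, hyx⟩ := hclos x.2
      have : y = x := Subtype.ext hyx
      rw [← this]
      exact hy
    · apply (Subgroup.closure_le _).2
      rintro g ⟨c, hc, hg⟩
      obtain ⟨t, ht, rfl⟩ := List.mem_map.1 hc
      obtain ⟨x, hx⟩ := hgenH t ht
      exact ⟨x, (hπrep t ht x hx).unique hg⟩
  -- the program
  have hT : ∀ c ∈ gens.map (·.1), ∃ g ∈ H0, Rep w mask E c g := by
    intro c hc
    obtain ⟨t, ht, rfl⟩ := List.mem_map.1 hc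
    obtain ⟨g, hg⟩ := exists_rep E (hgen t ht).1
    exact ⟨g, H_of_rep (List.mem_map.2 ⟨t, ht, rfl⟩) hg, hg⟩
  have hprog := slp_sound hm hid H0 _ prog (gens.map (·.1)).reverse (gens.map (·.1)).length (by simp)
    (fun c hc => hT c (List.mem_reverse.1 hc)) hslp
  obtain ⟨gu, hguH, hgu⟩ := hprog uc (by simp)
  obtain ⟨gv, hgvH, hgv⟩ := hprog vc (by simp)
  -- the central element
  obtain ⟨gz, hgz⟩ := exists_rep E hzg
  have hcomm' : gu * gv = gz * (gv * gu) := by
    have h2 := hgu.comp hm hgv
    rw [Nat.eq_of_beq_eq_true huv] at h2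
    exact h2.unique (hgz.comp hm (hgv.comp hm hgu))
  have hgzeq : gz = gu * gv * gu⁻¹ * gv⁻¹ := by
    rw [hcomm']
    group
  have hgzH : gz ∈ H0 := by
    rw [hgzeq]
    exact mul_mem (mul_mem (mul_mem hguH hgvH) (inv_mem hguH)) (inv_mem hgvH)
  let z : H0 := ⟨gz, hgzH⟩
  let u : H0 := ⟨gu, hguH⟩
  let v : H0 := ⟨gv, hgvH⟩
  have hπz : π z = 1 := by
    ext b
    have h1 := proj_apply (Subgroup.inclusion hle z) b
    have h2 : (π z) b = (proj (Subgroup.inclusion hle z)) b := rfl
    have h3 := hgz (Sum.inr b)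
    have h4 := (allL_eq_true _ _).1 hzb (e' b).1 (List.mem_range.2 (e' b).2)
    have h5 : app w mask zc (e' b).1 = (e' b).1 := Nat.eq_of_beq_eq_true h4
    have h6 : ((E (Sum.inr b) : Fin (m + N)) : ℕ) = (e' b).1 := EF_inr e' b
    rw [h6, h5] at h3
    have h7 : (gz (Sum.inr b)) = Sum.inr b := by
      apply (E).injective
      apply Fin.ext
      rw [← h3, h6]
    have h8 : (Subgroup.inclusion hle z : Equiv.Perm (Fin N ⊕ β)) = gz := rfl
    rw [h8, h7] at h1
    have h9 := Sum.inr.inj h1
    rw [h2, ← h9]
    rfl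
  have hzc : ∀ g ∈ H0, gz * g = g * gz := by
    have hcl : H0 ≤ centralizer ({gz} : Set (Equiv.Perm (Fin N ⊕ β))) := by
      apply (Subgroup.closure_le _).2
      rintro g ⟨c, hc, hg⟩
      obtain ⟨t, ht, rfl⟩ := List.mem_map.1 hc
      rw [SetLike.mem_coe, mem_centralizer_singleton_iff]
      have h1 := (allL_eq_true _ _).1 hzcomm t ht
      have h2 := Nat.eq_of_beq_eq_true h1
      have h3 := hgz.comp hm hg
      rw [h2] at h3
      exact (hg.comp hm hgz).unique h3
    intro g hg
    exact (mem_centralizer_singleton_iff.1 (hcl hg)).symm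
  have hzcent : z ∈ center H0 := by
    rw [mem_center_iff]
    intro y
    apply Subtype.ext
    exact (hzc y.1 y.2).symm
  have hzorder : orderOf z = k := by
    have := Fact.mk hk
    apply orderOf_eq_prime
    · apply Subtype.ext
      have h1 := Rep_pow hm hid hgz k
      exact h1.eq_one hid (Nat.eq_of_beq_eq_true hzk)
    · intro h
      have h1 : gz = 1 := congrArg Subtype.val h
      have h2 := hgz ((E).symm ⟨p, hp⟩)
      rw [h1] at h2
      simp at h2
      have h3 : Nat.beq (app w mask zc p) p = true := by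
        rw [h2]; exact Nat.beq_refl p
      rw [h3] at hzp
      exact Bool.noConfusion hzp
  have hzz : z ∈ commutator H0 := by
    have h3 : ⁅u, v⁆ = z := by
      apply Subtype.ext
      show gu * gv * gu⁻¹ * gv⁻¹ = gz
      exact hgzeq.symm
    rw [← h3]
    exact Subgroup.commutator_mem_commutator (mem_top _) (mem_top _)
  -- elements of `H0` agreeing on the points are equal
  have hag : ∀ a ∈ H0, ∀ b ∈ H0, (∀ x, ((E x : Fin (m + N)) : ℕ) ∈ Pts → a x = b x) → a = b := by
    intro a ha b hb hab
    have hπa : π ⟨a, ha⟩ ∈ G := hr ▸ ⟨_, rfl⟩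
    have hπb : π ⟨b, hb⟩ ∈ G := hr ▸ ⟨_, rfl⟩
    have hproj : ∀ (c : H0) (x : β), (c : Equiv.Perm (Fin N ⊕ β)) (Sum.inr x) = Sum.inr (π c x) := by
      intro c x
      exact proj_apply (Subgroup.inclusion hle c) x
    have hone : (π ⟨b, hb⟩)⁻¹ * π ⟨a, ha⟩ = 1 := by
      apply hbase _ (mul_mem (inv_mem hπb) hπa)
      intro x hx
      have h1 : ((E (Sum.inr x) : Fin (m + N)) : ℕ) ∈ Pts := by
        have h6 : ((E (Sum.inr x) : Fin (m + N)) : ℕ) = (e' x).1 := EF_inr e' x
        rw [h6]; exact hx
      have h2 := hab _ h1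
      have h3 := hproj ⟨a, ha⟩ x
      have h4 := hproj ⟨b, hb⟩ x
      simp only at h3 h4
      rw [h3, h4] at h2
      have h5 := Sum.inr.inj h2
      rw [Equiv.Perm.mul_apply, h5]
      simp
    have hpeq : π ⟨a, ha⟩ = π ⟨b, hb⟩ := by
      have := mul_eq_one_iff_eq_inv.1 hone
      exact (inv_mul_eq_one.1 hone).symm
    ext x
    cases x with
    | inr x =>
      have h3 := hproj ⟨a, ha⟩ x
      have h4 := hproj ⟨b, hb⟩ x
      simp only at h3 h4
      rw [h3, h4, hpeq]
    | inl i =>
      obtain ⟨r, hr', hrlt, j, hj⟩ := hcov i.1 i.2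
      let xr : Fin N ⊕ β := (E).symm ⟨r, hrlt⟩
      have hxr : ((E xr : Fin (m + N)) : ℕ) = r := by simp [xr]
      have hiter := iterZ_spec (e := E) hgz j xr
      rw [hxr, hj] at hiter
      have hinl : gz ^ j • xr = Sum.inl i := by
        apply (E).injective
        apply Fin.ext
        have h6 : ((E (Sum.inl i) : Fin (m + N)) : ℕ) = m + i.1 := EF_inl e' i
        rw [h6, hiter]
        rfl
      have hcomm_a : Commute gz a := (hzc a ha)
      have hcomm_b : Commute gz b := (hzc b hb)
      have h7 : a (Sum.inl i) = (gz ^ j) (a xr) := by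
        rw [← hinl]
        show a ((gz ^ j) xr) = _
        have := ((hcomm_a.pow_left j).eq)
        have h8 := congrArg (fun f : Equiv.Perm _ => f xr) this
        simpa [Equiv.Perm.mul_apply] using h8.symm
      have h9 : b (Sum.inl i) = (gz ^ j) (b xr) := by
        rw [← hinl]
        show b ((gz ^ j) xr) = _
        have := ((hcomm_b.pow_left j).eq)
        have h8 := congrArg (fun f : Equiv.Perm _ => f xr) this
        simpa [Equiv.Perm.mul_apply] using h8.symm
      rw [h7, h9, hab xr (by rw [hxr]; exact hr')]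
  -- the chain
  have hrepS : ∀ c ∈ topGens (ls.map CLev.lev), ∃ g ∈ H0, Rep w mask E c g := fun c hc =>
    hprog c (by simp [hc])
  have hK0 : KK w mask E zc (ls.map CLev.lev) ≤ H0 := by
    apply (Subgroup.closure_le _).2
    rintro g ⟨c, hc, hg⟩
    rcases List.mem_cons.1 hc with rfl | hc
    · rw [hg.unique hgz]; exact hgzH
    · obtain ⟨g', hg', hr'⟩ := hrepS c hc
      rw [hg.unique hr']; exact hg'
  obtain ⟨hLS, hcardc⟩ := chain_spec (e := E) (P := Pts) (L := L) (maskL := maskL) (idc := idc) hm hid H0 hag hgz hzc ls hK0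
    (fun c hc => (hrepS c hc).imp fun g hg => hg.2) hchain
  -- all of the group
  have hH0K : H0 ≤ KK w mask E zc (ls.map CLev.lev) := by
    apply (Subgroup.closure_le _).2
    rintro g ⟨c, hc, hg⟩
    obtain ⟨a, ha⟩ := gensOK_spec _ _ _ _ htw c hc
    simp only [relOK, ifB_eq_true] at ha
    obtain ⟨hv, hp'⟩ := ha
    obtain ⟨W, hW, hw⟩ := walk_spec hgz a.1 _ _ hLS hv
    have hgH : g ∈ H0 := H_of_rep hc hg
    have : g = W := by
      apply hag _ hgH _ (hK0 hW)
      intro x hx
      have h6 := (allL_eq_true _ _).1 hp' _ hx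
      have h7 := Nat.eq_of_beq_eq_true h6
      rw [hw x] at h7
      have h8 : app w mask idc (E x) = E x := hid _ (E x).2
      rw [h8, hg x] at h7
      have h9 := (E).injective (Fin.ext h7)
      exact h9
    rw [this]
    exact hW
  have hKz : Nat.card (KK w mask E zc []) = k := by
    have : KK w mask E zc [] = zpowers gz := by
      rw [zpowers_eq_closure]
      show Subgroup.closure _ = _
      congr 1
      ext g
      constructor
      · rintro ⟨c, hc, hg⟩
        have : c = zc := by simpa [topGens] using hc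
        subst this
        exact hg.unique hgz
      · intro hg
        have : g = gz := hg
        subst this
        exact ⟨zc, by simp, hgz⟩
    rw [this, Nat.card_zpowers]
    have h1 : orderOf gz = orderOf z := (Subgroup.orderOf_mk _ _).symm
    rw [h1, hzorder]
  have hfin : Finite H0 := inferInstance
  have hcardle : Nat.card H0 ≤ k * Nat.card G := by
    have h1 : Nat.card H0 ≤ Nat.card (KK w mask E zc (ls.map CLev.lev)) :=
      Subgroup.card_le_of_le hH0K
    rw [hKz, hord, mul_comm] at hcardc
    exact h1.trans hcardc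
  have hcardge : k * Nat.card G ≤ Nat.card H0 := by
    have h1 := Subgroup.card_mul_index π.ker
    rw [Subgroup.index_ker, hr] at h1
    rw [← h1]
    apply Nat.mul_le_mul_right
    have h2 : zpowers z ≤ π.ker := by
      rw [zpowers_le]
      exact hπz
    have h3 := Subgroup.card_le_of_le h2
    rwa [Nat.card_zpowers, hzorder] at h3
  obtain ⟨σ, h1, h2⟩ := CoverG.stem_of_range π G hr k (le_antisymm hcardle hcardge) z hπz hzcent hzorder hzz
  exact ⟨H0, inferInstance, hfin, σ, h1, h2⟩

end Main

end Cfsg.Agent.Lib.Schur.CoverC
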