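import Cfsg.Agent.Lib.Schur.CoverCert

/-!
# Kernel certificates for central extensions of subgroups of symmetric groups

A group `Γ` of permutations of `Fin N ⊕ β` preserving the two parts, with a central element `z` of
prime order `k` which is a commutator, of order `k * |G|`, and acting on `β` as `G`, is a stem
extension of `G` with kernel of order `k`.
-/

set_option autoImplicit false

namespace Cfsg.Agent.Lib.Schur.CoverG

open Cfsg Subgroup
open Cfsg.Agent.Lib.PermComp.Core Cfsg.Agent.Lib.Schur.CoverCert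
open scoped commutatorElement

/-- The abstract statement: a homomorphism onto a subgroup `G`, of the right order, and a
generator of the kernel that is central and in the commutator subgroup. -/
theorem stem_of_range {Γ β : Type*} [Group Γ] [Finite Γ]
    (π : Γ →* Equiv.Perm β) (G : Subgroup (Equiv.Perm β)) (hr : π.range = G) (k : ℕ)
    (hcard : Nat.card Γ = k * Nat.card G)
    (z : Γ) (hz : π z = 1) (hzc : z ∈ center Γ) (hzk : orderOf z = k)
    (hzcomm : z ∈ commutator Γ) :
    ∃ σ : Γ →* G, IsStemExtension σ ∧ Nat.card σ.ker = k := by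
  have hmem : ∀ x, π x ∈ G := fun x => by rw [← hr]; exact ⟨x, rfl⟩
  let σ : Γ →* G := π.codRestrict _ hmem
  have hsurj : Function.Surjective σ := by
    rintro ⟨y, hy⟩
    rw [← hr] at hy
    obtain ⟨x, rfl⟩ := hy
    exact ⟨x, rfl⟩
  have hkz : z ∈ σ.ker := by
    rw [MonoidHom.mem_ker]
    exact Subtype.ext hz
  have hcardker : Nat.card σ.ker = k := by
    have h1 := Subgroup.card_mul_index σ.ker
    have h2 : σ.ker.index = Nat.card G := by
      rw [Subgroup.index_ker, MonoidHom.range_eq_top.2 hsurj]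
      exact Nat.card_congr Subgroup.topEquiv.toEquiv
    have : Finite G := Finite.of_surjective σ hsurj
    rw [h2, hcard] at h1
    exact Nat.eq_of_mul_eq_mul_right Nat.card_pos h1
  have hker : σ.ker = zpowers z := by
    symm
    apply Subgroup.eq_of_le_of_card_ge
    · rw [zpowers_le]; exact hkz
    · rw [hcardker, Nat.card_zpowers, hzk]
  refine ⟨σ, ⟨hsurj, ?_, ?_⟩, hcardker⟩
  · rw [hker, zpowers_le]; exact hzc
  · rw [hker, zpowers_le]; exact hzcomm

section Main

universe u

variable {N m w mask L maskL idc w' mask' L' maskL' idc' : ℕ} {β : Type u} [Finite β]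

/-- The numbering of all points. -/
def EE (e' : β ≃ Fin m) : Fin N ⊕ β ≃ Fin (N + m) :=
  (Equiv.sumCongr (Equiv.refl _) e').trans finSumFinEquiv

@[simp] lemma EE_inl (e' : β ≃ Fin m) (a : Fin N) : ((EE e' (Sum.inl a) : Fin (N + m)) : ℕ) = a.1 := by
  simp [EE]

@[simp] lemma EE_inr (e' : β ≃ Fin m) (b : β) : ((EE (N := N) e' (Sum.inr b) : Fin (N + m)) : ℕ) = N + (e' b).1 := by
  simp [EE]

theorem mapsTo_of_rep' (e' : β ≃ Fin m) {c : ℕ} {g : Equiv.Perm (Fin N ⊕ β)} (hg : Rep w mask (EE e') c g)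
    (h : allL (fun i => Nat.ble (Nat.succ (app w mask c i)) N) (List.range N) = true) :
    g ∈ (Equiv.Perm.sumCongrHom (Fin N) β).range := by
  apply Equiv.Perm.mem_sumCongrHom_range_of_perm_mapsTo_inl
  rintro _ ⟨a, rfl⟩
  have h1 := (allL_eq_true _ _).1 h a.1 (List.mem_range.2 a.2)
  have h2 : app w mask c a.1 < N := Nat.le_of_ble_eq_true h1
  have h3 := hg (Sum.inl a)
  rw [EE_inl] at h3
  rw [h3] at h2
  cases hx : g (Sum.inl a) with
  | inl a' => exact ⟨a', rfl⟩
  | inr b =>
    rw [hx, EE_inr] at h2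
    omega

theorem rep_proj' (e' : β ≃ Fin m) {c c' : ℕ} {x : (Equiv.Perm.sumCongrHom (Fin N) β).range}
    (hg : Rep w mask (EE e') c (x : Equiv.Perm (Fin N ⊕ β)))
    (h : allL (fun b => Nat.beq (app w mask c (N + b)) (N + app w' mask' c' b))
      (List.range m) = true) :
    Rep w' mask' e' c' (proj x) := by
  intro b
  have h1 := (allL_eq_true _ _).1 h (e' b).1 (List.mem_range.2 (e' b).2)
  have h2 : app w mask c (N + (e' b).1) = N + app w' mask' c' (e' b).1 := Nat.eq_of_beq_eq_true h1
  have h3 := hg (Sum.inr b)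
  rw [proj_apply, EE_inr, EE_inr, h2] at h3
  omega

/-- The main theorem. -/
theorem exists_stem_of_cert (e' : β ≃ Fin m) (G : Subgroup (Equiv.Perm β)) {k : ℕ} (hk : k.Prime)
    {gens : List (ℕ × ℕ × ℕ)} {prog prog' : List (ℕ × ℕ × ℕ)} {ls ls' : List Lev}
    {zc zd uc ud vc vd p : ℕ}
    (hgens : allL (blockOK N m w mask w' mask') gens = true)
    (hc : checkAll (N + m) w mask L maskL idc (gens.map (·.1)) prog ls = true)
    (hc' : checkAll m w' mask' L' maskL' idc' (gens.map (·.2.2)) prog' ls' = true)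
    (hord' : orderC ls' = Nat.card G)
    (hord : orderC ls = k * Nat.card G)
    (hGgen : ∀ c ∈ gens.map (·.2.2), ∀ g, Rep w' mask' e' c g → g ∈ G)
    (hzg : goodPair (N + m) w mask zc zd = true)
    (hug : goodPair (N + m) w mask uc ud = true)
    (hvg : goodPair (N + m) w mask vc vd = true)
    (hzs : sift (N + m) w mask L maskL idc ls zc = true)
    (hus : sift (N + m) w mask L maskL idc ls uc = true)
    (hvs : sift (N + m) w mask L maskL idc ls vc = true)
    (hzb : allL (fun b => Nat.beq (app w mask zc (N + b)) (N + b)) (List.range m) = true)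
    (hzcomm : allL (fun t => Nat.beq (comp (N + m) w mask zc t.1) (comp (N + m) w mask t.1 zc))
      gens = true)
    (hzk : Nat.beq (powC (N + m) w mask idc zc k) idc = true)
    (hp : p < N + m) (hzp : Nat.beq (app w mask zc p) p = false)
    (huv : Nat.beq (comp (N + m) w mask uc vc)
      (comp (N + m) w mask zc (comp (N + m) w mask vc uc)) = true) :
    ∃ (Γ : Type u) (_ : Group Γ) (_ : Finite Γ) (σ : Γ →* G),
      IsStemExtension σ ∧ Nat.card σ.ker = k := by
  classical
  have E' := EE (N := N) e'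
  let E : Fin N ⊕ β ≃ Fin (N + m) := EE e'
  -- generators
  have hgen : ∀ t ∈ gens, goodPair (N + m) w mask t.1 t.2.1 = true ∧
      allL (fun i => Nat.ble (Nat.succ (app w mask t.1 i)) N) (List.range N) = true ∧
      allL (fun b => Nat.beq (app w mask t.1 (N + b)) (N + app w' mask' t.2.2 b))
        (List.range m) = true := by
    intro t ht
    have := (allL_eq_true _ _).1 hgens t ht
    simpa only [blockOK, ifB_eq_true] using this
  have hT : ∀ c ∈ gens.map (·.1), ∃ g, Rep w mask E c g := by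
    intro c hc
    obtain ⟨t, ht, rfl⟩ := List.mem_map.1 hc
    exact exists_rep _ (hgen t ht).1
  obtain ⟨hm, hid, -, hsem, heq, hcard⟩ := main_of_checkAll (e := E) hT hc
  set H0 : Subgroup (Equiv.Perm (Fin N ⊕ β)) := H w mask E (gens.map (·.1)) with hH0
  have hsift : ∀ {c : ℕ} {g : Equiv.Perm (Fin N ⊕ β)}, Rep w mask E c g →
      sift (N + m) w mask L maskL idc ls c = true → g ∈ H0 := by
    intro c g hg hs
    rw [heq]
    exact sift_sound_of_sem hm hid ls hsem c g hg hs
  -- the parts are preserved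
  have hle : H0 ≤ (Equiv.Perm.sumCongrHom (Fin N) β).range := by
    apply (Subgroup.closure_le _).2
    rintro g ⟨c, hc, hg⟩
    obtain ⟨t, ht, rfl⟩ := List.mem_map.1 hc
    exact mapsTo_of_rep' e' hg (hgen t ht).2.1
  let π : H0 →* Equiv.Perm β := proj.comp (Subgroup.inclusion hle)
  have hπrep : ∀ (t : ℕ × ℕ × ℕ), t ∈ gens → ∀ (x : H0),
      Rep w mask E t.1 (x : Equiv.Perm (Fin N ⊕ β)) →
      Rep w' mask' e' t.2.2 (π x) := by
    intro t ht x hx
    exact rep_proj' e' (x := Subgroup.inclusion hle x) hx (hgen t ht).2.2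
  have hgenH : ∀ (t : ℕ × ℕ × ℕ), t ∈ gens → ∃ x : H0,
      Rep w mask E t.1 (x : Equiv.Perm (Fin N ⊕ β)) := by
    intro t ht
    obtain ⟨g, hg⟩ := exists_rep E (hgen t ht).1
    exact ⟨⟨g, H_of_rep (List.mem_map.2 ⟨t, ht, rfl⟩) hg⟩, hg⟩
  -- the second certificate
  have hT' : ∀ c ∈ gens.map (·.2.2), ∃ g, Rep w' mask' e' c g := by
    intro c hc
    obtain ⟨t, ht, rfl⟩ := List.mem_map.1 hc
    obtain ⟨x, hx⟩ := hgenH t ht
    exact ⟨π x, hπrep t ht x hx⟩
  obtain ⟨-, -, -, -, -, hcard'⟩ := main_of_checkAll (e := e') hT' hc'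
  set H1 : Subgroup (Equiv.Perm β) := H w' mask' e' (gens.map (·.2.2)) with hH1
  have hrange : π.range = H1 := by
    apply le_antisymm
    · rintro _ ⟨x, rfl⟩
      have hclos : H0 ≤ ((H1.comap π).map H0.subtype) := by
        apply (Subgroup.closure_le _).2
        rintro g ⟨c, hc, hg⟩
        obtain ⟨t, ht, rfl⟩ := List.mem_map.1 hc
        have hgH : g ∈ H0 := Subgroup.subset_closure ⟨_, List.mem_map.2 ⟨t, ht, rfl⟩, hg⟩
        refine ⟨⟨g, hgH⟩, ?_, rfl⟩
        exact H_of_rep (List.mem_map.2 ⟨t, ht, rfl⟩) (hπrep t ht ⟨g, hgH⟩ hg)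
      obtain ⟨y, hy, hyx⟩ := hclos x.2
      have : y = x := Subtype.ext hyx
      rw [← this]
      exact hy
    · apply (Subgroup.closure_le _).2
      rintro g ⟨c, hc, hg⟩
      obtain ⟨t, ht, rfl⟩ := List.mem_map.1 hc
      obtain ⟨x, hx⟩ := hgenH t ht
      exact ⟨x, (hπrep t ht x hx).unique hg⟩
  have hcardG : Nat.card H1 = Nat.card G := by rw [hcard', hord']
  have hH1G : H1 ≤ G := by
    apply (Subgroup.closure_le _).2
    rintro g ⟨c, hc, hg⟩
    exact hGgen c hc g hg
  have hr : π.range = G := by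
    rw [hrange]
    exact Subgroup.eq_of_le_of_card_ge hH1G (le_of_eq hcardG.symm)
  -- the central element
  obtain ⟨gz, hgz⟩ := exists_rep E hzg
  obtain ⟨gu, hgu⟩ := exists_rep E hug
  obtain ⟨gv, hgv⟩ := exists_rep E hvg
  have hgzH := hsift hgz hzs
  have hguH := hsift hgu hus
  have hgvH := hsift hgv hvs
  let z : H0 := ⟨gz, hgzH⟩
  let u : H0 := ⟨gu, hguH⟩
  let v : H0 := ⟨gv, hgvH⟩
  have hπz : π z = 1 := by
    ext b
    have h1 := proj_apply (Subgroup.inclusion hle z) b
    have h2 : (π z) b = (proj (Subgroup.inclusion hle z)) b := rfl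
    have h3 := hgz (Sum.inr b)
    have h4 := (allL_eq_true _ _).1 hzb (e' b).1 (List.mem_range.2 (e' b).2)
    have h5 : app w mask zc (N + (e' b).1) = N + (e' b).1 := Nat.eq_of_beq_eq_true h4
    have h6 : ((E (Sum.inr b) : Fin (N + m)) : ℕ) = N + (e' b).1 := EE_inr e' b
    rw [h6, h5] at h3
    have h7 : (gz (Sum.inr b)) = Sum.inr b := by
      apply (E).injective
      apply Fin.ext
      rw [← h3, h6]
    have h8 : (Subgroup.inclusion hle z : Equiv.Perm (Fin N ⊕ β)) = gz := rfl
    rw [h8, h7] at h1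
    have h9 := Sum.inr.inj h1
    rw [h2, ← h9]
    rfl
  have hzcent : z ∈ center H0 := by
    rw [mem_center_iff]
    have hcl : H0 ≤ centralizer ({gz} : Set (Equiv.Perm (Fin N ⊕ β))) := by
      apply (Subgroup.closure_le _).2
      rintro g ⟨c, hc, hg⟩
      obtain ⟨t, ht, rfl⟩ := List.mem_map.1 hc
      rw [SetLike.mem_coe, mem_centralizer_singleton_iff]
      have h1 := (allL_eq_true _ _).1 hzcomm t ht
      have h2 := Nat.eq_of_beq_eq_true h1
      have h3 := hgz.comp hm hg
      rw [h2] at h3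
      exact (hg.comp hm hgz).unique h3
    intro y
    apply Subtype.ext
    exact mem_centralizer_singleton_iff.1 (hcl y.2)
  have hzorder : orderOf z = k := by
    have := Fact.mk hk
    apply orderOf_eq_prime
    · apply Subtype.ext
      have h1 := Rep_pow hm hid hgz k
      exact h1.eq_one hid (Nat.eq_of_beq_eq_true hzk)
    · intro h
      have h1 : gz = 1 := congrArg Subtype.val h
      have h2 := hgz ((E).symm ⟨p, hp⟩)
      rw [h1] at h2
      simp at h2
      have h3 : Nat.beq (app w mask zc p) p = true := by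
        rw [h2]; exact Nat.beq_refl p
      rw [h3] at hzp
      exact Bool.noConfusion hzp
  have hzz : z ∈ commutator H0 := by
    have h1 : gu * gv = gz * (gv * gu) := by
      have h2 := hgu.comp hm hgv
      rw [Nat.eq_of_beq_eq_true huv] at h2
      exact h2.unique (hgz.comp hm (hgv.comp hm hgu))
    have h3 : ⁅u, v⁆ = z := by
      apply Subtype.ext
      show gu * gv * gu⁻¹ * gv⁻¹ = gz
      rw [h1]
      group
    rw [← h3]
    exact Subgroup.commutator_mem_commutator (mem_top _) (mem_top _)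
  have hfin : Finite H0 := inferInstance
  obtain ⟨σ, h1, h2⟩ := stem_of_range π G hr k (by rw [hcard, hord]) z hπz hzcent hzorder hzz
  exact ⟨H0, inferInstance, hfin, σ, h1, h2⟩

end Main

end Cfsg.Agent.Lib.Schur.CoverG
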