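import Cfsg.Agent.Lib.Schur.PcMain
import Cfsg.Agent.Lib.Golay.M12

/-!
# Tail certificates for subgroups of the automorphism group of the Golay code
-/

set_option autoImplicit false

namespace Cfsg.Agent.Lib.Schur.PcGolay

open Cfsg Subgroup Cfsg.Agent.Lib.Schur.PcCert Cfsg.Agent.Lib.Schur.PcGroup Cfsg.Agent.Lib.Schur.PcMain
open Cfsg.Agent.Lib.Golay.Core Cfsg.Agent.Lib.Golay.Perm Cfsg.Agent.Lib.Golay.M12

/-- The identity. -/
def idC : ℕ := 984818244535754528103549039458486304

/-- The letter with a default. -/
def letterC (codes : List ℕ) (l : ℕ) : ℕ := codes.getD l idC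

/-- Code of a word. -/
def wCode (L : ℕ → ℕ) : List ℕ → ℕ
  | [] => idC
  | a :: w => comp (L a) (wCode L w)

/-- The normal word with exponents given by the digits of `x`. -/
def wordOfCode (p : ℕ) : ℕ → ℕ → ℕ → List ℕ
  | 0, _, _ => []
  | k + 1, l, x => List.replicate (x % p) l ++ wordOfCode p k (l + 1) (x / p)

lemma mem_wordOfCode {p k l x y : ℕ} (h : y ∈ wordOfCode p k l x) : l ≤ y ∧ y < l + k := by
  induction k generalizing l x with
  | zero => simp [wordOfCode] at h
  | succ k ih =>
    simp only [wordOfCode, List.mem_append] at h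
    rcases h with h | h
    · have := List.eq_of_mem_replicate h
      omega
    · have := ih h
      omega

/-- The image of a point under a word. -/
def applyW (L : ℕ → ℕ) : List ℕ → ℕ → ℕ
  | [], x => x
  | a :: w, x => img (L a) (applyW L w x)

/-- The fingerprint of a word: the images of base points. -/
def fpW (L : ℕ → ℕ) (base : List ℕ) (w : List ℕ) : ℕ :=
  base.foldr (fun b acc => acc * 32 + applyW L w b) 0

/-- A strictly increasing list. -/
def incB : List ℕ → Bool
  | [] => true
  | [_] => true
  | a :: b :: l => Nat.blt a b && incB (b :: l)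

lemma incB_pairwise {l : List ℕ} (h : incB l = true) : l.Pairwise (· < ·) := by
  induction l with
  | nil => exact List.Pairwise.nil
  | cons a l ih =>
    cases l with
    | nil => simp
    | cons b l =>
      simp only [incB, Bool.and_eq_true] at h
      have hab : a < b := Nat.le_of_ble_eq_true h.1
      have h2 := ih h.2
      refine List.pairwise_cons.2 ⟨?_, h2⟩
      intro x hx
      rcases List.mem_cons.1 hx with rfl | hx
      · exact hab
      · exact hab.trans (List.rel_of_pairwise_cons h2 hx)

/-- The group-level check. -/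
def chkG (c : Cert) (codes conj base ord : List ℕ) : Bool :=
  let L := letterC codes
  let W := wCode L
  (codes.all validPerm) && (conj.all validPerm) &&
  ((List.range c.n).all fun j =>
    (Nat.beq (W (List.replicate c.p j)) (W (c.rule j j))) &&
    (List.range j).all fun i => Nat.beq (comp (L j) (L i)) (W (i :: c.rule j i))) &&
  ((List.range c.items.length).all fun f =>
    (Nat.beq (c.items.getD f ([], [])).1.length (c.items.getD f ([], [])).2.length) &&
    (Nat.ble (c.items.length) conj.length) &&
    (List.range (c.items.getD f ([], [])).1.length).all fun l =>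
      Nat.beq (comp (W (c.lett f l)) (conj.getD f idC)) (comp (conj.getD f idC) (W (c.letb f l)))) &&
  (Nat.beq ord.length (c.p ^ c.n) && (base.all fun b => Nat.blt b 24) &&
   incB (ord.map fun x => fpW L base (wordOfCode c.p c.n 0 x)))

lemma idC_valid : validPerm idC = true := by decide +kernel
lemma idC_img : ∀ i < 24, img idC i = i := by decide +kernel
lemma g_idC : g idC = 1 := g_eq_one_of_img idC_valid idC_img

lemma img_lt_32_of_valid {P i : ℕ} (hP : validPerm P = true) (hi : i < 24) : img P i < 24 :=
  valid_img_lt hP hi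

lemma applyW_lt {L : ℕ → ℕ} (hL : ∀ l, validPerm (L l) = true) (w : List ℕ) {x : ℕ} (hx : x < 24) :
    applyW L w x < 24 := by
  induction w with
  | nil => exact hx
  | cons a w ih => exact valid_img_lt (hL a) ih

lemma g_wCode_pt {L : ℕ → ℕ} (hL : ∀ l, validPerm (L l) = true) (hW : ∀ w, validPerm (wCode L w) = true)
    (w : List ℕ) {x : ℕ} (hx : x < 24) : g (wCode L w) (pt x) = pt (applyW L w x) := by
  induction w with
  | nil =>
    rw [g_pt (hW []) hx]
    show pt (img idC x) = pt x
    rw [idC_img x hx]
  | cons a w ih =>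
    have h1 : wCode L (a :: w) = comp (L a) (wCode L w) := rfl
    rw [h1, g_comp (hL a) (hW w), Equiv.Perm.mul_apply, ih, g_pt (hL a) (applyW_lt hL w hx)]
    rfl

lemma fpW_congr {L : ℕ → ℕ} (hL : ∀ l, validPerm (L l) = true) (hW : ∀ w, validPerm (wCode L w) = true)
    {base : List ℕ} (hb : ∀ b ∈ base, b < 24) {u v : List ℕ} (h : g (wCode L u) = g (wCode L v)) :
    fpW L base u = fpW L base v := by
  induction base with
  | nil => rfl
  | cons b base ih =>
    have hb0 := hb b (by simp)
    have h1 := g_wCode_pt hL hW u hb0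
    rw [h, g_wCode_pt hL hW v hb0] at h1
    have h2 := pt_injOn (applyW_lt hL v hb0) (applyW_lt hL u hb0) h1
    have h3 := ih (fun x hx => hb x (by simp [hx]))
    simp only [fpW, List.foldr_cons] at h3 ⊢
    rw [h3, h2]

variable {Γ : Type*} [Group Γ]

/-- The main theorem of this file. -/
theorem card_ker_dvd (G : Subgroup (Equiv.Perm GolayPt)) (c : Cert) (hc : c.check = true)
    (codes conj base ord : List ℕ) (hch : chkG c codes conj base ord = true)
    (hmemI : g idC ∈ G) (hmem1 : ∀ P ∈ codes, g P ∈ G) (hmem2 : ∀ P ∈ conj, g P ∈ G)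
    {p : ℕ} [Fact p.Prime] (hpc : c.p = p) [Finite Γ] {σ : Γ →* G} (hσ : IsStemExtension σ) {m : ℕ}
    (hG : Nat.card G = c.p ^ c.n * m) (hm : ¬ p ∣ m) (P : Sylow p Γ) :
    Nat.card (σ.subgroupMap (P : Subgroup Γ)).ker ∣ c.zm := by
  simp only [chkG, Bool.and_eq_true, List.all_eq_true] at hch
  obtain ⟨⟨⟨⟨hv1, hv2⟩, hr⟩, hfu⟩, ⟨hl1, hl2⟩, hl3⟩ := hch
  have hb24 : ∀ b ∈ base, b < 24 := fun b hb => Nat.le_of_ble_eq_true (hl2 b hb)
  set L := letterC codes with hL
  set W := wCode L with hW
  -- validity
  have hLv : ∀ l, validPerm (L l) = true := by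
    intro l
    by_cases hl : l < codes.length
    · rw [hL, letterC, List.getD_eq_getElem _ _ hl]
      exact hv1 _ (List.getElem_mem hl)
    · rw [hL, letterC, List.getD_eq_default _ _ (by omega)]
      exact idC_valid
  have hWv : ∀ w, validPerm (W w) = true := by
    intro w
    induction w with
    | nil => exact idC_valid
    | cons a w ih => exact valid_comp (hLv a) ih
  have hLm : ∀ l, g (L l) ∈ G := by
    intro l
    by_cases hl : l < codes.length
    · rw [hL, letterC, List.getD_eq_getElem _ _ hl]
      exact hmem1 _ (List.getElem_mem hl)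
    · rw [hL, letterC, List.getD_eq_default _ _ (by omega)]
      exact hmemI
  let C : ℕ → ℕ := fun f => conj.getD f idC
  have hCv : ∀ f, validPerm (C f) = true := by
    intro f
    by_cases hl : f < conj.length
    · show validPerm (conj.getD f idC) = true
      rw [List.getD_eq_getElem _ _ hl]
      exact hv2 _ (List.getElem_mem hl)
    · show validPerm (conj.getD f idC) = true
      rw [List.getD_eq_default _ _ (by omega)]
      exact idC_valid
  have hCm : ∀ f, g (C f) ∈ G := by
    intro f
    by_cases hl : f < conj.length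
    · show g (conj.getD f idC) ∈ G
      rw [List.getD_eq_getElem _ _ hl]
      exact hmem2 _ (List.getElem_mem hl)
    · show g (conj.getD f idC) ∈ G
      rw [List.getD_eq_default _ _ (by omega)]
      exact hmemI
  let e : ℕ → G := fun l => ⟨g (L l), hLm l⟩
  let y : ℕ → G := fun f => ⟨g (C f), hCm f⟩
  have hwE : ∀ w, ((wEval e w : G) : Equiv.Perm GolayPt) = g (W w) := by
    intro w
    induction w with
    | nil => simp [hW, wCode, g_idC]
    | cons a w ih =>
      rw [wEval_cons, Subgroup.coe_mul, ih]
      show g (L a) * g (W w) = g (comp (L a) (W w))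
      rw [g_comp (hLv a) (hWv w)]
  have hwinj : ∀ {a b : List ℕ}, W a = W b → wEval e a = wEval e b := by
    intro a b h
    apply Subtype.ext
    rw [hwE, hwE, h]
  -- rule identities
  have he1 : ∀ j i, i < j → j < c.n → e j * e i = wEval e (i :: c.rule j i) := by
    intro j i hij hj
    have h1 := (hr j (List.mem_range.2 hj)).2 i (List.mem_range.2 hij)
    have h2 := Nat.eq_of_beq_eq_true h1
    apply Subtype.ext
    rw [hwE, Subgroup.coe_mul]
    show g (L j) * g (L i) = g (W (i :: c.rule j i))
    rw [← g_comp (hLv j) (hLv i), h2]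
  have he2 : ∀ i, i < c.n → e i ^ c.p = wEval e (c.rule i i) := by
    intro i hi
    have h1 := (hr i (List.mem_range.2 hi)).1
    have h2 := Nat.eq_of_beq_eq_true h1
    rw [← wEval_replicate]
    exact hwinj h2
  have hf : ∀ f l, (y f)⁻¹ * wEval e (c.lett f l) * y f = wEval e (c.letb f l) := by
    intro f l
    by_cases hff : f < c.items.length
    · obtain ⟨⟨h1, h2⟩, h3⟩ := hfu f (List.mem_range.2 hff)
      have h1' := Nat.eq_of_beq_eq_true h1
      by_cases hl : l < (c.items.getD f ([], [])).1.length
      · have h4 := Nat.eq_of_beq_eq_true (h3 l (List.mem_range.2 hl))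
        rw [mul_assoc, inv_mul_eq_iff_eq_mul]
        apply Subtype.ext
        rw [Subgroup.coe_mul, Subgroup.coe_mul, hwE, hwE]
        have h5 : g (comp (W (c.lett f l)) (C f)) = g (comp (C f) (W (c.letb f l))) := by
          rw [show comp (W (c.lett f l)) (C f) = comp (C f) (W (c.letb f l)) from h4]
        rw [g_comp (hWv _) (hCv _), g_comp (hCv _) (hWv _)] at h5
        exact h5
      · have e1 : c.lett f l = [] := by
          rw [Cert.lett, List.getD_eq_default _ _ (by omega)]
        have e2 : c.letb f l = [] := by
          rw [Cert.letb, List.getD_eq_default _ _ (by omega)]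
        rw [e1, e2]
        simp
    · have e1 : c.lett f l = [] := by
        rw [Cert.lett, List.getD_eq_default c.items _ (by omega)]
        simp
      have e2 : c.letb f l = [] := by
        rw [Cert.letb, List.getD_eq_default c.items _ (by omega)]
        simp
      rw [e1, e2]
      simp
  -- the size of the subgroup
  have hcard : c.p ^ c.n ≤ Nat.card (chain e c.n ⊥ 0) := by
    have hl1' := Nat.eq_of_beq_eq_true hl1
    rw [← hl1']
    set ws := ord.map (wordOfCode c.p c.n 0) with hws
    have hmemw : ∀ w ∈ ws, wEval e w ∈ chain e c.n ⊥ 0 := by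
      intro w hw
      obtain ⟨x, -, rfl⟩ := List.mem_map.1 hw
      refine wEval_mem_chain e c.n ⊥ fun y hy => ?_
      have := mem_wordOfCode hy
      omega
    have hnd : (ord.map fun x => fpW L base (wordOfCode c.p c.n 0 x)).Nodup :=
      (incB_pairwise hl3).imp (fun h => h.ne)
    have hlen : ws.length = ord.length := by simp [hws]
    let φ : Fin ord.length → chain e c.n ⊥ 0 := fun i =>
      ⟨wEval e (wordOfCode c.p c.n 0 ord[i]), hmemw _ (List.mem_map.2 ⟨_, List.getElem_mem _, rfl⟩)⟩
    have hφ : Function.Injective φ := by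
      intro a b hab
      have h1 : wEval e (wordOfCode c.p c.n 0 ord[a]) = wEval e (wordOfCode c.p c.n 0 ord[b]) :=
        congrArg Subtype.val hab
      have h2 : g (W (wordOfCode c.p c.n 0 ord[a])) = g (W (wordOfCode c.p c.n 0 ord[b])) := by
        rw [← hwE, ← hwE, h1]
      have h3 := fpW_congr hLv hWv hb24 h2
      have h4 := (List.nodup_iff_injective_get.1 hnd)
      have h5 : a.1 = b.1 := by
        have ha : a.1 < (ord.map fun x => fpW L base (wordOfCode c.p c.n 0 x)).length := by simp
        have hb : b.1 < (ord.map fun x => fpW L base (wordOfCode c.p c.n 0 x)).length := by simp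
        have := @h4 ⟨a.1, ha⟩ ⟨b.1, hb⟩ (by simpa using h3)
        exact Fin.mk.inj_iff.1 this
      exact Fin.ext h5
    have := Nat.card_le_card_of_injective φ hφ
    simpa using this
  exact card_ker_sylow_dvd c hc hpc hσ e y he1 he2 hf hcard hG hm P

end Cfsg.Agent.Lib.Schur.PcGolay
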